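import Cfsg.Agent.KFacts.OddLift.USixL.Quad
import Cfsg.Agent.KFacts.OddLift.Frat
import Cfsg.Agent.S0280

-- merged: Cfsg.Agent.KFacts.OddLift.USixL.Split
section

/-!
# If the good lifts are quadratic with biadditive polar map then the extension splits over a Sylow 2-subgroup

`false_of_biadd`: a perfect double cover of `PSU₆(2)` with good lifts `t` such that
`yy t u (v + w) = yy t u v * yy t u w` for all independent pairwise orthogonal isotropic `u, v, w` does not exist.
-/

set_option autoImplicit false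
set_option linter.unusedSectionVars false

namespace Cfsg.Agent.KFacts.OddLift.USixL

open Subgroup Cfsg Cfsg.Agent.LieClassical.HermBasic Cfsg.Agent.ClassicalGeometry.UnitTransv
  Cfsg.Agent.SporadicStructure.UnitTwo Cfsg.Agent.R01.PSUSix Cfsg.Agent.KFacts.Mult.Calc Cfsg.Agent.KFacts.MulDef
open Cfsg.Agent.ClassicalGeometry.UnitAutBasic (tau pr pr_surjective exists_scalar_of_pr_eq)
open scoped commutatorElement Pointwise

universe u v

variable {F : Type v} [Field F] [Fintype F] {hF : Fintype.card F = 2 ^ 2}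

/-! ### A counting lemma -/

/-- `f` is injective on `A` and `|A| = n`. -/
structure St {K X : Type*} [Group K] [Group X] (f : K →* X) (A : Subgroup K) (n : ℕ) : Prop where
  inj : ∀ a ∈ A, f a = 1 → a = 1
  card : Nat.card A = n

theorem St.step {K X : Type*} [Group K] [Group X] {f : K →* X} {A R : Subgroup K} {n m : ℕ}
    (hA : St f A n) (hR : St f R m) (hn : ∀ r ∈ R, ∀ a ∈ A, r * a * r⁻¹ ∈ A)
    (hs : ∀ a ∈ A, ∀ r ∈ R, f a = f r → f r = 1) : St f (R ⊔ A) (m * n) := by
  have hle : R ≤ normalizer (A : Set K) := by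
    intro r hr
    rw [mem_normalizer_iff]
    intro a
    refine ⟨fun ha => hn r hr a ha, fun ha => ?_⟩
    have h2 := hn r⁻¹ (inv_mem hr) _ ha
    have e : r⁻¹ * (r * a * r⁻¹) * r⁻¹⁻¹ = a := by group
    rwa [e] at h2
  have hcoe : ((R ⊔ A : Subgroup K) : Set K) = (R : Set K) * (A : Set K) :=
    Subgroup.coe_mul_of_left_le_normalizer_right _ _ hle
  have hmem : ∀ x, x ∈ R ⊔ A ↔ ∃ r ∈ R, ∃ a ∈ A, r * a = x := by
    intro x
    rw [← SetLike.mem_coe, hcoe, Set.mem_mul]
    rfl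
  refine ⟨?_, ?_⟩
  · intro x hx h1
    obtain ⟨r, hr, a, ha, rfl⟩ := (hmem x).1 hx
    have h2 : f a⁻¹ = f r := by
      rw [map_mul] at h1
      rw [map_inv, eq_comm]
      exact eq_inv_of_mul_eq_one_left h1
    have h3 := hs _ (inv_mem ha) r hr h2
    have h4 : f a = 1 := by rwa [map_mul, h3, one_mul] at h1
    rw [hR.inj r hr h3, hA.inj a ha h4, one_mul]
  · rw [← hR.card, ← hA.card, ← Nat.card_prod]
    refine (Nat.card_congr (Equiv.ofBijective (fun p : R × A => (⟨p.1.1 * p.2.1,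
      mul_mem (mem_sup_left p.1.2) (mem_sup_right p.2.2)⟩ : ↥(R ⊔ A))) ⟨?_, ?_⟩)).symm
    · rintro ⟨⟨r, hr⟩, ⟨a, ha⟩⟩ ⟨⟨r', hr'⟩, ⟨a', ha'⟩⟩ e
      have e1 : r * a = r' * a' := congrArg Subtype.val e
      have e2 : a' * a⁻¹ = r'⁻¹ * r := by
        calc a' * a⁻¹ = r'⁻¹ * (r' * a') * a⁻¹ := by group
          _ = r'⁻¹ * (r * a) * a⁻¹ := by rw [e1]
          _ = r'⁻¹ * r := by group
      have e3 := hs _ (mul_mem ha' (inv_mem ha)) _ (mul_mem (inv_mem hr') hr) (by rw [e2])
      have e4 := hR.inj _ (mul_mem (inv_mem hr') hr) e3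
      have e5 : r = r' := (inv_mul_eq_one.1 e4).symm
      subst e5
      have e6 : a = a' := mul_left_cancel e1
      subst e6
      rfl
    · rintro ⟨x, hx⟩
      obtain ⟨r, hr, a, ha, rfl⟩ := (hmem x).1 hx
      exact ⟨⟨⟨r, hr⟩, ⟨a, ha⟩⟩, rfl⟩

/-! ### Elements of `SU₆(2)` -/

/-- the stabiliser of `x₀`, `N` (pointwise) and `b + N` -/
def Gam (x₀ b : Fin 6 → F) (N : Submodule F (Fin 6 → F)) : Subgroup (SU 6 F 2) where
  carrier := {g | act g x₀ = x₀ ∧ (∀ n ∈ N, act g n = n) ∧ act g b - b ∈ N}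
  one_mem' := ⟨act_one _, fun n _ => act_one n, by rw [act_one, sub_self]; exact N.zero_mem⟩
  mul_mem' := by
    rintro g g' ⟨h1, h2, h3⟩ ⟨k1, k2, k3⟩
    refine ⟨by rw [act_mul, k1, h1], fun n hn => by rw [act_mul, k2 n hn, h2 n hn], ?_⟩
    have e : act (g * g') b - b = (act g b - b) + (act g' b - b) := by
      have e1 : act g' b = b + (act g' b - b) := by abel
      rw [act_mul]
      conv_lhs => rw [e1, act_add, h2 _ k3]
      abel
    rw [e]
    exact N.add_mem h3 k3
  inv_mem' := by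
    rintro g ⟨h1, h2, h3⟩
    have hi : ∀ x, act g x = x → act g⁻¹ x = x := fun x hx => by
      conv_lhs => rw [← hx]
      exact act_inv_act g x
    refine ⟨hi _ h1, fun n hn => hi _ (h2 n hn), ?_⟩
    have e : act g⁻¹ b - b = -(act g b - b) := by
      have e1 : act g b = b + (act g b - b) := by abel
      have e2 : act g⁻¹ (act g b) = act g⁻¹ b + (act g b - b) := by
        conv_lhs => rw [e1, act_add, hi _ (h2 _ h3)]
      rw [act_inv_act] at e2
      rw [eq_comm, neg_eq_iff_add_eq_zero]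
      have : (act g b - b) = b - act g⁻¹ b := by
        rw [eq_sub_iff_add_eq, add_comm]; exact e2.symm
      rw [this]; abel
    rw [e]
    exact N.neg_mem h3

theorem mem_Gam {x₀ b : Fin 6 → F} {N : Submodule F (Fin 6 → F)} {g : SU 6 F 2} :
    g ∈ Gam x₀ b N ↔ act g x₀ = x₀ ∧ (∀ n ∈ N, act g n = n) ∧ act g b - b ∈ N := Iff.rfl

/-- the element with image of `yy t u v` -/
def YS (hF : Fintype.card F = 2 ^ 2) {u v : Fin 6 → F} (p : PP u v) : SU 6 F 2 :=
  T hF u p.uu * T hF v p.vv * T hF (u + v) (p.add hF)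

theorem act_YS {u v : Fin 6 → F} (p : PP u v) (x : Fin 6 → F) :
    act (YS hF p) x = x + (hermForm 6 F 2 x u • v + hermForm 6 F 2 x v • u) := by
  have hvu := herm_eq_zero_swap hF p.uv
  have h2 := two_eq_zero hF
  unfold YS
  rw [act_mul, act_mul, act_T, act_T, act_T]
  simp only [herm_add_left, herm_smul_left, herm_add_right hF, p.uu, p.vv, p.uv, hvu, mul_zero, add_zero]
  funext i
  simp only [Pi.add_apply, Pi.smul_apply, smul_eq_mul]
  linear_combination (hermForm 6 F 2 x u * u i + hermForm 6 F 2 x v * v i) * h2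

section Rep

variable {K : Type u} [Group K] {f : K →* PSU 6 F 2} {t : (Fin 6 → F) → K} (h : TL hF f t)

/-- the preimage of the image of a subgroup of `SU₆(2)` -/
def PB (f : K →* PSU 6 F 2) (Γ : Subgroup (SU 6 F 2)) : Subgroup K := (Γ.map (pr 6 F 2)).comap f

include h

theorem map_t {u : Fin 6 → F} (hu : hermForm 6 F 2 u u = 0) : f (t u) = pr 6 F 2 (T hF u hu) := by
  rw [h.map u hu, tau_eq_pr hF hu]

theorem map_y {u v : Fin 6 → F} (p : PP u v) : f (yy t u v) = pr 6 F 2 (YS hF p) := by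
  unfold yy YS
  rw [map_mul, map_mul, map_t h p.uu, map_t h p.vv, map_t h (p.add hF), map_mul, map_mul]

theorem t_mem_PB {u : Fin 6 → F} (hu : hermForm 6 F 2 u u = 0) {x₀ b : Fin 6 → F} {N : Submodule F (Fin 6 → F)}
    (h0 : hermForm 6 F 2 x₀ u = 0) (hN : ∀ n ∈ N, hermForm 6 F 2 n u = 0) (hb : hermForm 6 F 2 b u • u ∈ N) :
    t u ∈ PB f (Gam x₀ b N) := by
  refine ⟨T hF u hu, ⟨act_T_of_perp hF u hu _ h0, fun n hn => act_T_of_perp hF u hu _ (hN n hn), ?_⟩,
    (map_t h hu).symm⟩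
  rw [act_T, add_sub_cancel_left]
  exact hb

theorem y_mem_PB {u v : Fin 6 → F} (p : PP u v) {x₀ b : Fin 6 → F} {N : Submodule F (Fin 6 → F)}
    (h0 : hermForm 6 F 2 x₀ u = 0) (h1 : hermForm 6 F 2 x₀ v = 0) (hN : ∀ n ∈ N, hermForm 6 F 2 n u = 0)
    (hN1 : ∀ n ∈ N, hermForm 6 F 2 n v = 0)
    (hb : hermForm 6 F 2 b u • v + hermForm 6 F 2 b v • u ∈ N) : yy t u v ∈ PB f (Gam x₀ b N) := by
  refine ⟨YS hF p, ⟨?_, fun n hn => ?_, ?_⟩, (map_y h p).symm⟩
  · rw [act_YS, h0, h1, zero_smul, zero_smul, add_zero, add_zero]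
  · rw [act_YS, hN n hn, hN1 n hn, zero_smul, zero_smul, add_zero, add_zero]
  · rw [act_YS, add_sub_cancel_left]
    exact hb

omit h in
/-- separation -/
theorem sep (hF : Fintype.card F = 2 ^ 2) {A : Subgroup K} {x₀ b : Fin 6 → F} {N : Submodule F (Fin 6 → F)}
    (hA : A ≤ PB f (Gam x₀ b N)) (hx : x₀ ≠ 0)
    {r : K} {g' : SU 6 F 2} (hr : f r = pr 6 F 2 g') (h0 : act g' x₀ = x₀) (h1 : act g' b - b ∈ N → f r = 1) :
    ∀ a ∈ A, f a = f r → f r = 1 := by
  intro a ha e
  obtain ⟨g, ⟨g0, gN, gb⟩, hg⟩ := hA ha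
  apply h1
  have e1 : pr 6 F 2 g = pr 6 F 2 g' := by
    rw [← hr, ← e]; exact hg
  obtain ⟨c, -, hc'⟩ := exists_scalar_of_pr_eq hF (by norm_num) e1
  have hc : ∀ x, act g' x = c • act g x := hc'
  have hc1 : c = 1 := by
    have e2 := hc x₀
    rw [h0, g0] at e2
    obtain ⟨i, hi⟩ : ∃ i, x₀ i ≠ 0 := by
      by_contra hcon
      push Not at hcon
      exact hx (funext hcon)
    have e3 := congrFun e2 i
    rw [Pi.smul_apply, smul_eq_mul] at e3
    exact mul_right_cancel₀ hi (by rw [one_mul]; exact e3.symm)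
  have e4 := hc b
  rw [hc1, one_smul] at e4
  rw [e4]
  exact gb

/-- the root group of order two -/
def RT (t : (Fin 6 → F) → K) (u : Fin 6 → F) : Subgroup K := zpowers (t u)

theorem mem_RT {u : Fin 6 → F} (hu : hermForm 6 F 2 u u = 0) {a : K} : a ∈ RT t u ↔ a = 1 ∨ a = t u := by
  constructor
  · intro ha
    obtain ⟨n, rfl⟩ := mem_zpowers_iff.1 ha
    rcases Int.even_or_odd' n with ⟨m, rfl | rfl⟩
    · left
      rw [zpow_mul, zpow_ofNat, pow_two, h.sq u hu, one_zpow]
    · right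
      rw [zpow_add, zpow_mul, zpow_ofNat, pow_two, h.sq u hu, one_zpow, one_mul, zpow_one]
  · rintro (rfl | rfl)
    · exact one_mem _
    · exact mem_zpowers _

theorem st_RT {u : Fin 6 → F} (hu : hermForm 6 F 2 u u = 0) (u0 : u ≠ 0) : St f (RT t u) 2 where
  inj a ha h1 := by
    rcases (mem_RT h hu).1 ha with h2 | h2
    · exact h2
    · rw [h2, h.map u hu] at h1
      exact absurd h1 (tau_ne_one hF (by norm_num) hu u0)
  card := by
    have hne : t u ≠ 1 := by
      intro e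
      have := h.map u hu
      rw [e, map_one] at this
      exact tau_ne_one hF (by norm_num) hu u0 this.symm
    unfold RT
    rw [Nat.card_zpowers]
    exact orderOf_eq_prime (by rw [pow_two]; exact h.sq u hu) hne

/-- the root group of order four -/
def RY (h : TL hF f t) {u v : Fin 6 → F} (p : Line u v) : Subgroup K where
  carrier := {k | ∃ a : F, k = yy t u (a • v)}
  one_mem' := ⟨0, by rw [zero_smul, y_zero_right h p.uu]⟩
  mul_mem' := by
    rintro _ _ ⟨a, rfl⟩ ⟨b, rfl⟩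
    exact ⟨a + b, y_line_add h p a b⟩
  inv_mem' := by
    rintro _ ⟨a, rfl⟩
    refine ⟨a, inv_eq_of_mul_eq_one_left ?_⟩
    have := y_sq h (p.pp.smul hF 1 a)
    rwa [one_smul] at this

omit h in
theorem mem_RY {h : TL hF f t} {u v : Fin 6 → F} {p : Line u v} {k : K} :
    k ∈ RY h p ↔ ∃ a : F, k = yy t u (a • v) := Iff.rfl

theorem pp_smul {u v : Fin 6 → F} (p : Line u v) (a : F) : PP u (a • v) := by
  have := p.pp.smul hF 1 a
  rwa [one_smul] at this

theorem RY_inj {u v : Fin 6 → F} (p : Line u v) {a : F} (ha : f (yy t u (a • v)) = 1) : a = 0 := by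
  by_contra h0
  rw [map_y h (pp_smul h p a), ← map_one (pr 6 F 2)] at ha
  obtain ⟨c, -, hc'⟩ := exists_scalar_of_pr_eq hF (by norm_num) ha.symm
  have hc : ∀ x, act (YS hF (pp_smul h p a)) x = c • act (1 : SU 6 F 2) x := hc'
  have hc1 : c = 1 := by
    have e2 := hc u
    rw [act_YS, p.uu, herm_smul_right, p.uv, mul_zero, zero_smul, zero_smul, add_zero, add_zero, act_one] at e2
    obtain ⟨i, hi⟩ : ∃ i, u i ≠ 0 := by
      by_contra hcon
      push Not at hcon
      exact p.u0 (funext hcon)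
    have e3 := congrFun e2 i
    rw [Pi.smul_apply, smul_eq_mul] at e3
    exact mul_right_cancel₀ hi (by rw [one_mul]; exact e3.symm)
  obtain ⟨y, hy⟩ := exists_herm_ne_zero hF p.u0
  have hyu : hermForm 6 F 2 y u ≠ 0 := fun e => hy (herm_eq_zero_swap hF e)
  have e4 := hc y
  rw [hc1, one_smul, act_YS, act_one] at e4
  have e5 : hermForm 6 F 2 y u • a • v + hermForm 6 F 2 y (a • v) • u = 0 := by
    have := congrArg (fun z => z - y) e4
    simp only [add_sub_cancel_left, sub_self] at this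
    exact this
  rw [smul_smul] at e5
  have hne : hermForm 6 F 2 y u * a ≠ 0 := mul_ne_zero hyu h0
  apply p.np (-((hermForm 6 F 2 y u * a)⁻¹ * hermForm 6 F 2 y (a • v)))
  have e6 : (hermForm 6 F 2 y u * a) • v = -(hermForm 6 F 2 y (a • v) • u) := eq_neg_of_add_eq_zero_left e5
  rw [neg_smul, mul_smul, ← smul_neg, ← e6, smul_smul, inv_mul_cancel₀ hne, one_smul]

theorem st_RY {u v : Fin 6 → F} (p : Line u v) : St f (RY h p) 4 where
  inj a ha h1 := by
    obtain ⟨a, rfl⟩ := ha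
    rw [RY_inj h p h1, zero_smul, y_zero_right h p.uu]
  card := by
    have e : (4 : ℕ) = Nat.card F := by rw [Nat.card_eq_fintype_card, hF]; norm_num
    rw [e]
    refine (Nat.card_congr (Equiv.ofBijective (fun a : F => (⟨yy t u (a • v), ⟨a, rfl⟩⟩ : RY h p)) ⟨?_, ?_⟩)).symm
    · intro a b hab
      have e1 : yy t u (a • v) = yy t u (b • v) := congrArg Subtype.val hab
      have e2 := y_line_add h p a b
      rw [e1, y_line_add h p b b, add_self hF b, zero_smul, y_zero_right h p.uu] at e2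
      have e3 : a + b = 0 := RY_inj h p (by rw [← e2, map_one])
      exact eq_of_add_eq_zero hF e3
    · rintro ⟨_, a, rfl⟩
      exact ⟨a, rfl⟩

theorem RY_le_MW {u v : Fin 6 → F} (p : Line u v) {W : Submodule F (Fin 6 → F)} (hu : u ∈ W) (hv : v ∈ W) :
    RY h p ≤ MW t W := by
  rintro _ ⟨a, rfl⟩
  exact y_mem hu (W.smul_mem a hv)

omit h in
theorem RT_le_MW {u : Fin 6 → F} {W : Submodule F (Fin 6 → F)} (hu : u ∈ W) : RT t u ≤ MW t W := by
  rw [RT, zpowers_le]
  exact t_mem hu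

end Rep

end Cfsg.Agent.KFacts.OddLift.USixL

end

-- merged: Cfsg.Agent.KFacts.OddLift.USixL.Chain
section

/-!
# The complement over a Sylow 2-subgroup

`Tri u v w`: independent pairwise orthogonal isotropic vectors. `Bi t`: the polar map is biadditive on such triples.
`st9`: nine root groups generate a subgroup of order `2¹⁵` on which `f` is injective.
`false_of_bi`: there is no such perfect double cover.
-/

set_option autoImplicit false
set_option linter.unusedSectionVars false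
set_option linter.unusedSimpArgs false

namespace Cfsg.Agent.KFacts.OddLift.USixL

open Subgroup Cfsg Cfsg.Agent.LieClassical.HermBasic Cfsg.Agent.ClassicalGeometry.UnitTransv
  Cfsg.Agent.SporadicStructure.UnitTwo Cfsg.Agent.R01.PSUSix Cfsg.Agent.KFacts.Mult.Calc Cfsg.Agent.KFacts.MulDef
open Cfsg.Agent.ClassicalGeometry.UnitAutBasic (tau pr pr_surjective)
open scoped commutatorElement

universe u v

variable {F : Type v} [Field F] [Fintype F] {hF : Fintype.card F = 2 ^ 2}

/-! ### Triples -/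

/-- independent pairwise orthogonal isotropic vectors -/
structure Tri (u v w : Fin 6 → F) : Prop where
  uu : hermForm 6 F 2 u u = 0
  vv : hermForm 6 F 2 v v = 0
  ww : hermForm 6 F 2 w w = 0
  uv : hermForm 6 F 2 u v = 0
  uw : hermForm 6 F 2 u w = 0
  vw : hermForm 6 F 2 v w = 0
  ind : ∀ a b c : F, a • u + b • v + c • w = 0 → a = 0 ∧ b = 0 ∧ c = 0

theorem Tri.smul (hF : Fintype.card F = 2 ^ 2) {u v w : Fin 6 → F} (p : Tri u v w) {a b c : F} (ha : a ≠ 0)
    (hb : b ≠ 0) (hc : c ≠ 0) : Tri (a • u) (b • v) (c • w) where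
  uu := herm_smul_self hF p.uu a
  vv := herm_smul_self hF p.vv b
  ww := herm_smul_self hF p.ww c
  uv := by rw [herm_smul_left, herm_smul_right, p.uv, mul_zero, mul_zero]
  uw := by rw [herm_smul_left, herm_smul_right, p.uw, mul_zero, mul_zero]
  vw := by rw [herm_smul_left, herm_smul_right, p.vw, mul_zero, mul_zero]
  ind := by
    intro x y z e
    rw [smul_smul, smul_smul, smul_smul] at e
    obtain ⟨h1, h2, h3⟩ := p.ind _ _ _ e
    exact ⟨(mul_eq_zero.1 h1).resolve_right ha, (mul_eq_zero.1 h2).resolve_right hb,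
      (mul_eq_zero.1 h3).resolve_right hc⟩

theorem Tri.ti (hF : Fintype.card F = 2 ^ 2) {u v w : Fin 6 → F} (p : Tri u v w) :
    TI (Submodule.span F {u, v, w}) := by
  have hvu := herm_eq_zero_swap hF p.uv
  have hwu := herm_eq_zero_swap hF p.uw
  have hwv := herm_eq_zero_swap hF p.vw
  intro x hx y hy
  obtain ⟨a, b, c, rfl⟩ := Submodule.mem_span_triple.1 hx
  obtain ⟨a', b', c', rfl⟩ := Submodule.mem_span_triple.1 hy
  simp only [herm_add_left, herm_smul_left, herm_add_right hF, herm_smul_right, p.uu, p.vv, p.ww, p.uv, p.uw, p.vw,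
    hvu, hwu, hwv, mul_zero, add_zero]

variable {K : Type u} [Group K] {f : K →* PSU 6 F 2} {t : (Fin 6 → F) → K}

/-- The polar map is biadditive. -/
def Bi (t : (Fin 6 → F) → K) : Prop := ∀ u v w : Fin 6 → F, Tri u v w → yy t u (v + w) = yy t u v * yy t u w

section Comb

variable (h : TL hF f t) (hB : Bi t)

include h

/-- a subgroup containing the lifts of three points and the root groups of the three lines contains all lifts -/
theorem t_comb (hB : Bi t) {u v w : Fin 6 → F} (p : Tri u v w) (S : Subgroup K) (su : t u ∈ S) (sv : t v ∈ S)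
    (sw : t w ∈ S) (suv : ∀ a : F, yy t u (a • v) ∈ S) (suw : ∀ a : F, yy t u (a • w) ∈ S)
    (svw : ∀ a : F, yy t v (a • w) ∈ S) : MW t (Submodule.span F {u, v, w}) ≤ S := by
  have hW := p.ti hF
  have mu : u ∈ Submodule.span F {u, v, w} := Submodule.subset_span (by simp)
  have mv : v ∈ Submodule.span F {u, v, w} := Submodule.subset_span (by simp)
  have mw : w ∈ Submodule.span F {u, v, w} := Submodule.subset_span (by simp)
  have pp : ∀ {x y : Fin 6 → F}, x ∈ Submodule.span F {u, v, w} → y ∈ Submodule.span F {u, v, w} → PP x y :=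
    fun {x y} hx hy => ⟨hW x hx x hx, hW y hy y hy, hW x hx y hy⟩
  have ts : ∀ {x : Fin 6 → F}, hermForm 6 F 2 x x = 0 → t x ∈ S → ∀ a : F, t (a • x) ∈ S := by
    intro x hx hs a
    by_cases ha : a = 0
    · rw [ha, zero_smul, h.zero]; exact one_mem _
    · rw [h.smul a x ha hx]; exact hs
  have ys : ∀ {x y : Fin 6 → F}, PP x y → (∀ a : F, yy t x (a • y) ∈ S) → ∀ a b : F, yy t (a • x) (b • y) ∈ S := by
    intro x y q hs a b
    by_cases ha : a = 0
    · rw [ha, zero_smul, y_zero_left h (herm_smul_self hF q.vv b)]; exact one_mem _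
    · have q' := q.smul hF 1 b
      rw [one_smul] at q'
      rw [y_smul_left h q' ha, smul_smul]; exact hs _
  unfold MW
  rw [closure_le]
  rintro _ ⟨x, hx, rfl⟩
  obtain ⟨a, b, c, rfl⟩ := Submodule.mem_span_triple.1 hx
  have ma := Submodule.smul_mem _ a mu
  have mb := Submodule.smul_mem _ b mv
  have mc := Submodule.smul_mem _ c mw
  have e : a • u + b • v + c • w = a • u + (b • v + c • w) := by abel
  show t (a • u + b • v + c • w) ∈ S
  rw [e, t_add h (pp ma (Submodule.add_mem _ mb mc)), t_add h (pp mb mc)]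
  refine mul_mem (mul_mem (ts p.uu su a) (mul_mem (mul_mem (ts p.vv sv b) (ts p.ww sw c))
    (ys (pp mv mw) svw b c))) ?_
  by_cases ha : a = 0
  · rw [ha, zero_smul, y_zero_left h (hW _ (Submodule.add_mem _ mb mc) _ (Submodule.add_mem _ mb mc))]
    exact one_mem _
  by_cases hb : b = 0
  · rw [hb, zero_smul, zero_add]; exact ys (pp mu mw) suw a c
  by_cases hc : c = 0
  · rw [hc, zero_smul, add_zero]; exact ys (pp mu mv) suv a b
  rw [hB _ _ _ (p.smul hF ha hb hc)]
  exact mul_mem (ys (pp mu mv) suv a b) (ys (pp mu mw) suw a c)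

end Comb

/-! ### The frame -/

/-- the dual basis vectors -/
def ff (ω : F) : Fin 3 → Fin 6 → F := ![![ω, ω ^ 2, 0, 0, 0, 0], ![0, 0, ω, ω ^ 2, 0, 0], ![0, 0, 0, 0, ω, ω ^ 2]]

section Frame

variable (hF) {ω : F} (hω : ω ^ 2 + ω + 1 = 0)

include hF hω

theorem herm_ff (i j : Fin 3) : hermForm 6 F 2 (ff ω i) (ff ω j) = 0 := by
  have h2 := two_eq_zero hF
  have h3 : ω ^ 3 = 1 := omega_cubed hω
  rw [herm_def]
  fin_cases i <;> fin_cases j <;> simp [Fin.sum_univ_succ, ff] <;>
    linear_combination (1 + ω ^ 3 + 1) * h3 + h2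

theorem herm_fe (i j : Fin 3) : hermForm 6 F 2 (ff ω i) (ee j) = if i = j then 1 else 0 := by
  have h2 := two_eq_zero hF
  rw [herm_def]
  fin_cases i <;> fin_cases j <;> simp [Fin.sum_univ_succ, ff, ee] <;>
    linear_combination hω - h2

theorem herm_ef (i j : Fin 3) : hermForm 6 F 2 (ee i) (ff ω j) = if i = j then 1 else 0 := by
  rw [herm_swap hF (ff ω j), herm_fe hF hω]
  by_cases hij : i = j
  · rw [if_pos hij.symm, if_pos hij, one_pow]
  · rw [if_neg (Ne.symm hij), if_neg hij, zero_pow (by norm_num)]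

theorem line_ef {i j : Fin 3} (hij : i ≠ j) : Line (ee i) (ff ω j) where
  uu := herm_ee hF i i
  vv := herm_ff hF hω j j
  uv := by rw [herm_ef hF hω, if_neg hij]
  u0 := ee_ne_zero i
  np := by
    intro c e
    have h1 := herm_ef hF hω j j
    rw [if_pos rfl, e, herm_smul_right, herm_ee hF, mul_zero] at h1
    exact zero_ne_one h1

/-- `e₀, e₁, e₂` -/
theorem tri_eee : Tri (ee 0 : Fin 6 → F) (ee 1) (ee 2) where
  uu := herm_ee hF _ _
  vv := herm_ee hF _ _
  ww := herm_ee hF _ _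
  uv := herm_ee hF _ _
  uw := herm_ee hF _ _
  vw := herm_ee hF _ _
  ind := by
    intro a b c e
    refine ⟨?_, ?_, ?_⟩
    · have := congrFun e 0; simpa [ee] using this
    · have := congrFun e 2; simpa [ee] using this
    · have := congrFun e 4; simpa [ee] using this

/-- `f₂, e₁, e₀` -/
theorem tri_fee : Tri (ff ω 2) (ee 1) (ee 0) where
  uu := herm_ff hF hω _ _
  vv := herm_ee hF _ _
  ww := herm_ee hF _ _
  uv := by rw [herm_fe hF hω, if_neg (by decide)]
  uw := by rw [herm_fe hF hω, if_neg (by decide)]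
  vw := herm_ee hF _ _
  ind := by
    intro a b c e
    have hω0 := omega_ne_zero hω
    refine ⟨?_, ?_, ?_⟩
    · have := congrFun e 4
      simp [ee, ff] at this
      exact this.resolve_right hω0
    · have := congrFun e 2; simpa [ee, ff] using this
    · have := congrFun e 0; simpa [ee, ff] using this

/-- `e₀, f₁, f₂` span a totally isotropic subspace -/
theorem tri_eff : Tri (ee 0) (ff ω 1) (ff ω 2) where
  uu := herm_ee hF _ _
  vv := herm_ff hF hω _ _
  ww := herm_ff hF hω _ _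
  uv := by rw [herm_ef hF hω, if_neg (by decide)]
  uw := by rw [herm_ef hF hω, if_neg (by decide)]
  vw := herm_ff hF hω _ _
  ind := by
    intro a b c e
    have hω0 := omega_ne_zero hω
    refine ⟨?_, ?_, ?_⟩
    · have := congrFun e 0; simpa [ee, ff] using this
    · have := congrFun e 2
      simp [ee, ff] at this
      exact this.resolve_right hω0
    · have := congrFun e 4
      simp [ee, ff] at this
      exact this.resolve_right hω0

end Frame

/-! ### The steps -/

section Steps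

variable (h : TL hF f t)

include h

theorem perp_pair {n₁ n₂ u : Fin 6 → F} (h1 : hermForm 6 F 2 n₁ u = 0) (h2 : hermForm 6 F 2 n₂ u = 0) :
    ∀ n ∈ Submodule.span F {n₁, n₂}, hermForm 6 F 2 n u = 0 := by
  intro n hn
  obtain ⟨a, b, rfl⟩ := Submodule.mem_span_pair.1 hn
  rw [herm_add_left, herm_smul_left, herm_smul_left, h1, h2, mul_zero, mul_zero, add_zero]

theorem RT_le {u x₀ b n₁ n₂ : Fin 6 → F} (hu : hermForm 6 F 2 u u = 0) (h0 : hermForm 6 F 2 x₀ u = 0)
    (h1 : hermForm 6 F 2 n₁ u = 0) (h2 : hermForm 6 F 2 n₂ u = 0)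
    (hb : hermForm 6 F 2 b u • u ∈ Submodule.span F {n₁, n₂}) :
    RT t u ≤ PB f (Gam x₀ b (Submodule.span F {n₁, n₂})) := by
  rw [RT, zpowers_le]
  exact t_mem_PB h hu h0 (perp_pair h h1 h2) hb

theorem RY_le {u v x₀ b n₁ n₂ : Fin 6 → F} (p : Line u v) (h0 : hermForm 6 F 2 x₀ u = 0)
    (h0' : hermForm 6 F 2 x₀ v = 0)
    (h1 : hermForm 6 F 2 n₁ u = 0) (h2 : hermForm 6 F 2 n₂ u = 0)
    (h1' : hermForm 6 F 2 n₁ v = 0) (h2' : hermForm 6 F 2 n₂ v = 0)
    (hb : ∀ a : F, hermForm 6 F 2 b u • a • v + hermForm 6 F 2 b (a • v) • u ∈ Submodule.span F {n₁, n₂}) :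
    RY h p ≤ PB f (Gam x₀ b (Submodule.span F {n₁, n₂})) := by
  rintro _ ⟨a, rfl⟩
  have e : ∀ x : Fin 6 → F, hermForm 6 F 2 x v = 0 → hermForm 6 F 2 x (a • v) = 0 := fun x hx => by
    rw [herm_smul_right, hx, mul_zero]
  exact y_mem_PB h (pp_smul h p a) h0 (e _ h0') (perp_pair h h1 h2) (perp_pair h (e _ h1') (e _ h2')) (hb a)

theorem sepT {A : Subgroup K} {u x₀ b n₁ n₂ : Fin 6 → F} (hu : hermForm 6 F 2 u u = 0) (x0 : x₀ ≠ 0)
    (h0 : hermForm 6 F 2 x₀ u = 0) (hA : A ≤ PB f (Gam x₀ b (Submodule.span F {n₁, n₂})))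
    (key : hermForm 6 F 2 b u • u ∉ Submodule.span F {n₁, n₂}) : ∀ a ∈ A, ∀ r ∈ RT t u, f a = f r → f r = 1 := by
  intro a ha r hr
  rcases (mem_RT h hu).1 hr with rfl | rfl
  · intro _; rw [map_one]
  · refine sep hF hA x0 (map_t h hu) (act_T_of_perp hF u hu _ h0) ?_ a ha
    intro h1
    rw [act_T, add_sub_cancel_left] at h1
    exact absurd h1 key

theorem sepY {A : Subgroup K} {u v x₀ b n₁ n₂ : Fin 6 → F} (p : Line u v) (x0 : x₀ ≠ 0)
    (h0 : hermForm 6 F 2 x₀ u = 0) (h0' : hermForm 6 F 2 x₀ v = 0)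
    (hA : A ≤ PB f (Gam x₀ b (Submodule.span F {n₁, n₂})))
    (key : ∀ a : F, hermForm 6 F 2 b u • a • v + hermForm 6 F 2 b (a • v) • u ∈ Submodule.span F {n₁, n₂} → a = 0) :
    ∀ a ∈ A, ∀ r ∈ RY h p, f a = f r → f r = 1 := by
  rintro a ha _ ⟨c, rfl⟩
  refine sep hF hA x0 (map_y h (pp_smul h p c)) ?_ ?_ a ha
  · rw [act_YS, h0, herm_smul_right, h0', mul_zero, zero_smul, zero_smul, add_zero, add_zero]
  · intro h1
    rw [act_YS, add_sub_cancel_left] at h1
    rw [key c h1, zero_smul, y_zero_right h p.uu, map_one]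

theorem norm_comm {W : Submodule F (Fin 6 → F)} (hW : TI W) {A R : Subgroup K} (hR : R ≤ MW t W) (hA : A ≤ MW t W) :
    ∀ r ∈ R, ∀ a ∈ A, r * a * r⁻¹ ∈ A := by
  intro r hr a ha
  rw [MW_comm h hW (hR hr) (hA ha), mul_inv_cancel_right]
  exact ha

omit h in
theorem norm_sup {R A B : Subgroup K} (hA : ∀ r ∈ R, ∀ a ∈ A, r * a * r⁻¹ ∈ A ⊔ B)
    (hB : ∀ r ∈ R, ∀ a ∈ B, r * a * r⁻¹ ∈ A ⊔ B) : ∀ r ∈ R, ∀ a ∈ A ⊔ B, r * a * r⁻¹ ∈ A ⊔ B := by
  intro r hr
  have h1 : A ⊔ B ≤ (A ⊔ B).comap (MulAut.conj r).toMonoidHom := sup_le (hA r hr) (hB r hr)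
  exact fun a ha => h1 ha

variable {ω : F} (hω : ω ^ 2 + ω + 1 = 0) (hB : Bi t)

include hω hB

/-- **Nine root groups.** -/
theorem st9 : ∃ A : Subgroup K, St f A (2 ^ 15) := by
  have hee := herm_ee (F := F) hF
  have hfe := herm_fe hF hω
  have hef := herm_ef hF hω
  have hff := herm_ff hF hω
  have w0 := (tri_eee hF hω).ti hF
  have w1 := (tri_fee hF hω).ti hF
  have w2 := (tri_eff hF hω).ti hF
  set W0 := Submodule.span F {(ee 0 : Fin 6 → F), ee 1, ee 2} with hW0
  have m0 : ee 0 ∈ W0 := Submodule.subset_span (by simp)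
  have m1 : ee 1 ∈ W0 := Submodule.subset_span (by simp)
  have m2 : ee 2 ∈ W0 := Submodule.subset_span (by simp)
  have l12 := line_ee (F := F) hF (i := 1) (j := 2) (by decide)
  have l02 := line_ee (F := F) hF (i := 0) (j := 2) (by decide)
  have l01 := line_ee (F := F) hF (i := 0) (j := 1) (by decide)
  have k02 := line_ef hF hω (i := 0) (j := 2) (by decide)
  have k12 := line_ef hF hω (i := 1) (j := 2) (by decide)
  have k01 := line_ef hF hω (i := 0) (j := 1) (by decide)
  have z0 := ee_ne_zero (F := F) 0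
  have hz := herm_zero_left (q := 2) (F := F) (n := 6)
  -- the subgroups
  set A1 := RT t (ee 2) with hA1
  have s1 : St f A1 2 := st_RT h (hee 2 2) (ee_ne_zero 2)
  have i1 : A1 ≤ MW t W0 := RT_le_MW m2
  -- step 2
  set A2 := RY h l12 ⊔ A1 with hA2
  have r2 : RY h l12 ≤ MW t W0 := RY_le_MW h l12 m1 m2
  have i2 : A2 ≤ MW t W0 := sup_le r2 i1
  have s2 : St f A2 (4 * 2) := by
    refine St.step s1 (st_RY h l12) (norm_comm h w0 r2 i1) (sepY h l12 z0 (hee _ _) (hee _ _) (b := ff ω 1)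
      (n₁ := 0) (n₂ := 0) ?_ ?_)
    · exact RT_le h (hee _ _) (hee _ _) (hz _) (hz _) (by simp [hfe])
    · intro a ha
      obtain ⟨c, d, e⟩ := Submodule.mem_span_pair.1 ha
      simp only [herm_smul_right, hfe, hef, hee, mul_ite, mul_one, mul_zero] at e
      have := congrFun e 4
      simpa [hfe, herm_smul_right, ee] using this.symm
  -- step 3
  set A3 := RT t (ee 1) ⊔ A2 with hA3
  have r3 : RT t (ee 1) ≤ MW t W0 := RT_le_MW m1
  have i3 : A3 ≤ MW t W0 := sup_le r3 i2
  have s3 : St f A3 (2 * (4 * 2)) := by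
    refine St.step s2 (st_RT h (hee 1 1) (ee_ne_zero 1)) (norm_comm h w0 r3 i2) (sepT h (hee 1 1) z0 (hee _ _)
      (b := ff ω 1) (n₁ := ee 2) (n₂ := 0) ?_ ?_)
    · refine sup_le (RY_le h l12 (hee _ _) (hee _ _) (hee _ _) (hz _) (hee _ _) (hz _) ?_)
        (RT_le h (hee _ _) (hee _ _) (hee _ _) (hz _) (by simp [hfe]))
      intro a
      exact Submodule.mem_span_pair.2 ⟨a, 0, by simp [hfe, herm_smul_right]⟩
    · intro ha
      obtain ⟨c, d, e⟩ := Submodule.mem_span_pair.1 ha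
      simp only [herm_smul_right, hfe, hef, hee, mul_ite, mul_one, mul_zero] at e
      have := congrFun e 2
      simp [hfe, ee] at this
  -- step 4
  set A4 := RY h l02 ⊔ A3 with hA4
  have r4 : RY h l02 ≤ MW t W0 := RY_le_MW h l02 m0 m2
  have i4 : A4 ≤ MW t W0 := sup_le r4 i3
  have s4 : St f A4 (4 * (2 * (4 * 2))) := by
    refine St.step s3 (st_RY h l02) (norm_comm h w0 r4 i3) (sepY h l02 z0 (hee _ _) (hee _ _) (b := ff ω 0)
      (n₁ := 0) (n₂ := 0) ?_ ?_)
    · refine sup_le (RT_le h (hee _ _) (hee _ _) (hz _) (hz _) (by simp [hfe])) (sup_le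
        (RY_le h l12 (hee _ _) (hee _ _) (hz _) (hz _) (hz _) (hz _) ?_)
        (RT_le h (hee _ _) (hee _ _) (hz _) (hz _) (by simp [hfe])))
      intro a
      simp [hfe, herm_smul_right]
    · intro a ha
      obtain ⟨c, d, e⟩ := Submodule.mem_span_pair.1 ha
      simp only [herm_smul_right, hfe, hef, hee, mul_ite, mul_one, mul_zero] at e
      have := congrFun e 4
      simpa [hfe, herm_smul_right, ee] using this.symm
  -- step 5
  set A5 := RY h l01 ⊔ A4 with hA5
  have r5 : RY h l01 ≤ MW t W0 := RY_le_MW h l01 m0 m1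
  have i5 : A5 ≤ MW t W0 := sup_le r5 i4
  have s5 : St f A5 (4 * (4 * (2 * (4 * 2)))) := by
    refine St.step s4 (st_RY h l01) (norm_comm h w0 r5 i4) (sepY h l01 z0 (hee _ _) (hee _ _) (b := ff ω 0)
      (n₁ := ee 2) (n₂ := 0) ?_ ?_)
    · refine sup_le (RY_le h l02 (hee _ _) (hee _ _) (hee _ _) (hz _) (hee _ _) (hz _) ?_) (sup_le
        (RT_le h (hee _ _) (hee _ _) (hee _ _) (hz _) (by simp [hfe])) (sup_le
        (RY_le h l12 (hee _ _) (hee _ _) (hee _ _) (hz _) (hee _ _) (hz _) ?_)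
        (RT_le h (hee _ _) (hee _ _) (hee _ _) (hz _) (by simp [hfe]))))
      · intro a
        exact Submodule.mem_span_pair.2 ⟨a, 0, by simp [hfe, herm_smul_right]⟩
      · intro a
        simp [hfe, herm_smul_right]
    · intro a ha
      obtain ⟨c, d, e⟩ := Submodule.mem_span_pair.1 ha
      simp only [herm_smul_right, hfe, hef, hee, mul_ite, mul_one, mul_zero] at e
      have := congrFun e 2
      simpa [hfe, herm_smul_right, ee] using this.symm
  -- step 6
  set A6 := RT t (ee 0) ⊔ A5 with hA6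
  have r6 : RT t (ee 0) ≤ MW t W0 := RT_le_MW m0
  have i6 : A6 ≤ MW t W0 := sup_le r6 i5
  have s6 : St f A6 (2 * (4 * (4 * (2 * (4 * 2))))) := by
    refine St.step s5 (st_RT h (hee 0 0) (ee_ne_zero 0)) (norm_comm h w0 r6 i5) (sepT h (hee 0 0) z0 (hee _ _)
      (b := ff ω 0) (n₁ := ee 1) (n₂ := ee 2) ?_ ?_)
    · refine sup_le (RY_le h l01 (hee _ _) (hee _ _) (hee _ _) (hee _ _) (hee _ _) (hee _ _) ?_) (sup_le
        (RY_le h l02 (hee _ _) (hee _ _) (hee _ _) (hee _ _) (hee _ _) (hee _ _) ?_) (sup_le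
        (RT_le h (hee _ _) (hee _ _) (hee _ _) (hee _ _) (by simp [hfe])) (sup_le
        (RY_le h l12 (hee _ _) (hee _ _) (hee _ _) (hee _ _) (hee _ _) (hee _ _) ?_)
        (RT_le h (hee _ _) (hee _ _) (hee _ _) (hee _ _) (by simp [hfe])))))
      · intro a
        exact Submodule.mem_span_pair.2 ⟨a, 0, by simp [hfe, herm_smul_right]⟩
      · intro a
        exact Submodule.mem_span_pair.2 ⟨0, a, by simp [hfe, herm_smul_right]⟩
      · intro a
        simp [hfe, herm_smul_right]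
    · intro ha
      obtain ⟨c, d, e⟩ := Submodule.mem_span_pair.1 ha
      simp only [herm_smul_right, hfe, hef, hee, mul_ite, mul_one, mul_zero] at e
      have := congrFun e 0
      simp [hfe, ee] at this
  have e6 : MW t W0 ≤ A6 := by
    refine t_comb h hB (tri_eee hF hω) A6 ?_ ?_ ?_ ?_ ?_ ?_
    · exact mem_sup_left (mem_zpowers _)
    · exact mem_sup_right (mem_sup_right (mem_sup_right (mem_sup_left (mem_zpowers _))))
    · exact mem_sup_right (mem_sup_right (mem_sup_right (mem_sup_right (mem_sup_right (mem_zpowers _)))))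
    · exact fun a => mem_sup_right (mem_sup_left ⟨a, rfl⟩)
    · exact fun a => mem_sup_right (mem_sup_right (mem_sup_left ⟨a, rfl⟩))
    · exact fun a => mem_sup_right (mem_sup_right (mem_sup_right (mem_sup_right (mem_sup_left ⟨a, rfl⟩))))
  -- conjugation of `A6` by `yy t (ee i) (a • ff ω j)`
  have conj6 : ∀ {i j : Fin 3} (p : Line (ee i) (ff ω j)), ∀ r ∈ RY h p, ∀ a ∈ A6, r * a * r⁻¹ ∈ A6 := by
    rintro i j p _ ⟨c, rfl⟩ a ha
    refine e6 (conj_MW h w0 (map_y h (pp_smul h p c)) ?_ (i6 ha))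
    intro x hx
    have hi : ee i ∈ W0 := by fin_cases i <;> assumption
    rw [act_YS, w0 x hx _ hi, zero_smul, zero_add]
    exact Submodule.add_mem _ hx (Submodule.smul_mem _ _ hi)
  -- step 7
  set A7 := RY h k02 ⊔ A6 with hA7
  have s7 : St f A7 (4 * (2 * (4 * (4 * (2 * (4 * 2)))))) := by
    refine St.step s6 (st_RY h k02) (conj6 k02) (sepY h k02 z0 (hee _ _) (by rw [hef, if_neg (by decide)])
      (b := ee 2) (n₁ := 0) (n₂ := 0) ?_ ?_)
    · have hy : ∀ {i j : Fin 3} (p : Line (ee i) (ee j)), RY h p ≤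
          PB f (Gam (ee 0) (ee 2) (Submodule.span F {0, 0})) := fun p =>
        RY_le h p (hee _ _) (hee _ _) (hz _) (hz _) (hz _) (hz _) (by intro a; simp [hee, herm_smul_right])
      have ht : ∀ i, RT t (ee i) ≤ PB f (Gam (ee 0) (ee 2) (Submodule.span F {0, 0})) := fun i =>
        RT_le h (hee _ _) (hee _ _) (hz _) (hz _) (by simp [hee])
      exact sup_le (ht 0) (sup_le (hy l01) (sup_le (hy l02) (sup_le (ht 1) (sup_le (hy l12) (ht 2)))))
    · intro a ha
      obtain ⟨c, d, e⟩ := Submodule.mem_span_pair.1 ha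
      simp only [herm_smul_right, hfe, hef, hee, mul_ite, mul_one, mul_zero] at e
      have := congrFun e 0
      simpa [hee, hef, herm_smul_right, ee] using this.symm
  -- step 8
  have mf : ∀ x ∈ ({ff ω 2, ee 1, ee 0} : Set (Fin 6 → F)), x ∈ Submodule.span F {ff ω 2, ee 1, ee 0} := fun x hx =>
    Submodule.subset_span hx
  set A8 := RY h k12 ⊔ A7 with hA8
  have n8 : ∀ r ∈ RY h k12, ∀ a ∈ A7, r * a * r⁻¹ ∈ A7 := by
    refine norm_sup (fun r hr a ha => ?_) (fun r hr a ha => mem_sup_right (conj6 k12 r hr a ha))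
    exact mem_sup_left (norm_comm h w1 (RY_le_MW h k12 (mf _ (by simp)) (mf _ (by simp)))
      (RY_le_MW h k02 (mf _ (by simp)) (mf _ (by simp))) r hr a ha)
  have s8 : St f A8 (4 * (4 * (2 * (4 * (4 * (2 * (4 * 2))))))) := by
    refine St.step s7 (st_RY h k12) n8 (sepY h k12 z0 (hee _ _) (by rw [hef, if_neg (by decide)])
      (b := ee 2) (n₁ := ee 0) (n₂ := 0) ?_ ?_)
    · have hy : ∀ {i j : Fin 3} (p : Line (ee i) (ee j)), RY h p ≤
          PB f (Gam (ee 0) (ee 2) (Submodule.span F {ee 0, 0})) := fun p =>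
        RY_le h p (hee _ _) (hee _ _) (hee _ _) (hz _) (hee _ _) (hz _) (by intro a; simp [hee, herm_smul_right])
      have ht : ∀ i, RT t (ee i) ≤ PB f (Gam (ee 0) (ee 2) (Submodule.span F {ee 0, 0})) := fun i =>
        RT_le h (hee _ _) (hee _ _) (hee _ _) (hz _) (by simp [hee])
      refine sup_le (RY_le h k02 (hee _ _) (by rw [hef, if_neg (by decide)]) (hee _ _) (hz _)
        (by rw [hef, if_neg (by decide)]) (hz _) ?_)
        (sup_le (ht 0) (sup_le (hy l01) (sup_le (hy l02) (sup_le (ht 1) (sup_le (hy l12) (ht 2))))))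
      intro a
      exact Submodule.mem_span_pair.2 ⟨a ^ 2, 0, by simp [hee, hef, herm_smul_right]⟩
    · intro a ha
      obtain ⟨c, d, e⟩ := Submodule.mem_span_pair.1 ha
      simp only [herm_smul_right, hfe, hef, hee, mul_ite, mul_one, mul_zero] at e
      have := congrFun e 2
      simpa [hee, hef, herm_smul_right, ee] using this.symm
  -- step 9
  have mg : ∀ x ∈ ({ee 0, ff ω 1, ff ω 2} : Set (Fin 6 → F)), x ∈ Submodule.span F {ee 0, ff ω 1, ff ω 2} :=
    fun x hx => Submodule.subset_span hx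
  set A9 := RY h k01 ⊔ A8 with hA9
  have n9 : ∀ r ∈ RY h k01, ∀ a ∈ A8, r * a * r⁻¹ ∈ A8 := by
    refine norm_sup ?_ (fun r hr a ha => mem_sup_right ?_)
    · rintro _ ⟨c, rfl⟩ _ ⟨d, rfl⟩
      have e1 : hermForm 6 F 2 (ee 1) (c • ff ω 1) = c ^ 2 := by
        rw [herm_smul_right, hef, if_pos rfl, mul_one]
      have e2 : hermForm 6 F 2 (ff ω 2) (c • ff ω 1) = 0 := by
        rw [herm_smul_right, hff, mul_zero]
      rw [conj_y h (pp_smul h k12 d) (map_y h (pp_smul h k01 c)), act_YS, act_YS, hee, e1, herm_smul_left, hfe,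
        if_neg (by decide), herm_smul_left, e2, mul_zero]
      simp only [zero_smul, zero_add, add_zero]
      -- `yy t (ee 1 + c² ee 0) (d ff 2)`
      by_cases hc : c = 0
      · rw [hc, zero_pow (by norm_num), zero_smul, add_zero]
        exact mem_sup_left ⟨d, rfl⟩
      by_cases hd : d = 0
      · rw [hd, zero_smul, y_zero_right h]
        · exact one_mem _
        · simp [herm_add_left, herm_add_right hF, herm_smul_left, herm_smul_right, hee]
      have hc2 : c ^ 2 ≠ 0 := pow_ne_zero 2 hc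
      have p1 := (tri_fee hF hω).smul hF (a := d) (b := 1) (c := c ^ 2) hd one_ne_zero hc2
      rw [one_smul] at p1
      have pa : PP (ee 1 + c ^ 2 • ee 0) (d • ff ω 2) := by
        refine ⟨?_, p1.uu, ?_⟩
        · simp [herm_add_left, herm_add_right hF, herm_smul_left, herm_smul_right, hee]
        · simp [herm_add_left, herm_smul_left, herm_smul_right, hef]
      rw [y_symm h pa, hB _ _ _ p1, y_symm h ⟨p1.uu, p1.vv, p1.uv⟩, y_symm h ⟨p1.uu, p1.ww, p1.uw⟩]
      refine mul_mem (mem_sup_left ⟨d, rfl⟩) (mem_sup_right (mem_sup_left ?_))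
      have p2 := pp_smul h k02 d
      rw [y_smul_left h p2 hc2, smul_smul]
      exact ⟨_, rfl⟩
    · refine norm_sup (fun r hr a ha => ?_) (fun r hr a ha => mem_sup_right (conj6 k01 r hr a ha)) r hr a ha
      exact mem_sup_left (norm_comm h w2 (RY_le_MW h k01 (mg _ (by simp)) (mg _ (by simp)))
        (RY_le_MW h k02 (mg _ (by simp)) (mg _ (by simp))) r hr a ha)
  have s9 : St f A9 (4 * (4 * (4 * (2 * (4 * (4 * (2 * (4 * 2)))))))) := by
    refine St.step s8 (st_RY h k01) n9 (sepY h k01 z0 (hee _ _) (by rw [hef, if_neg (by decide)])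
      (b := ee 1) (n₁ := 0) (n₂ := 0) ?_ ?_)
    · have hy : ∀ {i j : Fin 3} (p : Line (ee i) (ee j)), RY h p ≤
          PB f (Gam (ee 0) (ee 1) (Submodule.span F {0, 0})) := fun p =>
        RY_le h p (hee _ _) (hee _ _) (hz _) (hz _) (hz _) (hz _) (by intro a; simp [hee, herm_smul_right])
      have ht : ∀ i, RT t (ee i) ≤ PB f (Gam (ee 0) (ee 1) (Submodule.span F {0, 0})) := fun i =>
        RT_le h (hee _ _) (hee _ _) (hz _) (hz _) (by simp [hee])
      have hk : ∀ {i : Fin 3} (p : Line (ee i) (ff ω 2)), RY h p ≤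
          PB f (Gam (ee 0) (ee 1) (Submodule.span F {0, 0})) := fun p =>
        RY_le h p (hee _ _) (by rw [hef, if_neg (by decide)]) (hz _) (hz _) (hz _) (hz _)
          (by intro a; simp [hee, hef, herm_smul_right])
      exact sup_le (hk k12) (sup_le (hk k02)
        (sup_le (ht 0) (sup_le (hy l01) (sup_le (hy l02) (sup_le (ht 1) (sup_le (hy l12) (ht 2)))))))
    · intro a ha
      obtain ⟨c, d, e⟩ := Submodule.mem_span_pair.1 ha
      simp only [herm_smul_right, hfe, hef, hee, mul_ite, mul_one, mul_zero] at e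
      have := congrFun e 0
      simpa [hee, hef, herm_smul_right, ee] using this.symm
  exact ⟨A9, by
    have e : (2 : ℕ) ^ 15 = 4 * (4 * (4 * (2 * (4 * (4 * (2 * (4 * 2))))))) := by norm_num
    rw [e]; exact s9⟩

end Steps

end Cfsg.Agent.KFacts.OddLift.USixL

end
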