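import Cfsg.Agent.R01.PSUSix
import Cfsg.Agent.KFacts.Mult.Calc

-- merged: Cfsg.Agent.KFacts.OddLift.USixL.Lift
section

/-!
# Good lifts of the transvections of `PSU₆(2)` in a central 2-extension

`TL hF f t`: `t v : K` is a lift of the transvection `tau hF v` (`v` isotropic) under `f : K → PSU 6 F 2`, equivariant
under conjugation, with `t (c v) = t v`, lifts of commuting transvections commute, `t v * t v = 1` and the product over
the five points of an isotropic line is 1 (`line`).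

`exists_TL`: such a `t` exists if `f` is surjective with kernel a central finite 2-group.
-/

set_option autoImplicit false
set_option linter.unusedSectionVars false

namespace Cfsg.Agent.KFacts.OddLift.USixL

open Subgroup Cfsg Cfsg.Agent.LieClassical.HermBasic Cfsg.Agent.ClassicalGeometry.UnitTransv
  Cfsg.Agent.SporadicStructure.UnitTwo Cfsg.Agent.R01.PSUSix Cfsg.Agent.KFacts.Mult.Calc
open Cfsg.Agent.ClassicalGeometry.UnitAutBasic (tau pr pr_surjective)
open scoped commutatorElement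

universe u v

variable {F : Type v} [Field F] [Fintype F] (hF : Fintype.card F = 2 ^ 2)

/-! ### The field and the vectors -/

include hF in
/-- the elements of the field -/
theorem cases4 {ω : F} (hω : ω ^ 2 + ω + 1 = 0) (x : F) : x = 0 ∨ x = 1 ∨ x = ω ∨ x = ω ^ 2 := by
  have h4 := pow_four hF x
  have h2 := two_eq_zero hF
  have e : x * ((x - 1) * ((x - ω) * (x - ω ^ 2))) = 0 := by
    have h3 : ω ^ 3 = 1 := omega_cubed hω
    have e1 : (x - ω) * (x - ω ^ 2) = x ^ 2 + x + 1 := by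
      linear_combination (-x) * hω + h3
    rw [e1]
    linear_combination h4
  rcases mul_eq_zero.1 e with h | h
  · exact Or.inl h
  · rcases mul_eq_zero.1 h with h | h
    · exact Or.inr (Or.inl (sub_eq_zero.1 h))
    · rcases mul_eq_zero.1 h with h | h
      · exact Or.inr (Or.inr (Or.inl (sub_eq_zero.1 h)))
      · exact Or.inr (Or.inr (Or.inr (sub_eq_zero.1 h)))

theorem omega_ne_zero {ω : F} (hω : ω ^ 2 + ω + 1 = 0) : ω ≠ 0 := by
  rintro rfl
  norm_num at hω

theorem omega_ne_one {ω : F} (hF : Fintype.card F = 2 ^ 2) (hω : ω ^ 2 + ω + 1 = 0) : ω ≠ 1 := by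
  rintro rfl
  have h2 := two_eq_zero hF
  have : (1 : F) = 0 := by linear_combination hω - h2
  exact one_ne_zero this

/-- a basis of a totally isotropic plane -/
def ee : Fin 3 → Fin 6 → F := ![![1, 1, 0, 0, 0, 0], ![0, 0, 1, 1, 0, 0], ![0, 0, 0, 0, 1, 1]]

include hF in
theorem herm_ee (i j : Fin 3) : hermForm 6 F 2 (ee i) (ee j) = 0 := by
  have h2 := two_eq_zero hF
  rw [herm_def]
  fin_cases i <;> fin_cases j <;> simp [Fin.sum_univ_succ, ee] <;> linear_combination h2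

theorem ee_ne_zero (i : Fin 3) : (ee i : Fin 6 → F) ≠ 0 := by
  intro h
  fin_cases i
  · have := congrFun h 0
    simp [ee] at this
  · have := congrFun h 2
    simp [ee] at this
  · have := congrFun h 4
    simp [ee] at this

/-- The pair `u`, `v` spans a totally isotropic line. -/
structure Line (u v : Fin 6 → F) : Prop where
  uu : hermForm 6 F 2 u u = 0
  vv : hermForm 6 F 2 v v = 0
  uv : hermForm 6 F 2 u v = 0
  u0 : u ≠ 0
  np : ∀ c : F, v ≠ c • u

section LineLemmas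

variable {u v : Fin 6 → F}

include hF

theorem Line.vu (h : Line u v) : hermForm 6 F 2 v u = 0 := herm_eq_zero_swap hF h.uv

omit hF in
theorem Line.v0 (h : Line u v) : v ≠ 0 := by
  have := h.np 0
  rwa [zero_smul] at this

theorem Line.herm (h : Line u v) (a b a' b' : F) :
    hermForm 6 F 2 (a • u + b • v) (a' • u + b' • v) = 0 := by
  simp only [herm_add_left, herm_smul_left, herm_add_right hF, herm_smul_right, h.uu, h.vv, h.uv, h.vu hF, mul_zero,
    add_zero]

theorem Line.herm1 (h : Line u v) (a a' : F) : hermForm 6 F 2 (a • u + v) (a' • u + v) = 0 := by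
  have := h.herm hF a 1 a' 1
  rwa [one_smul] at this

theorem Line.hermu (h : Line u v) (a : F) : hermForm 6 F 2 u (a • u + v) = 0 := by
  have := h.herm hF 1 0 a 1
  rwa [one_smul, zero_smul, add_zero, one_smul] at this

theorem Line.hermv (h : Line u v) (a : F) : hermForm 6 F 2 v (a • u + v) = 0 := by
  have := h.herm hF 0 1 a 1
  rwa [one_smul, zero_smul, zero_add] at this

omit hF in
theorem Line.ne (h : Line u v) (a : F) : a • u + v ≠ 0 := by
  intro e
  apply h.np (-a)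
  rw [neg_smul]
  exact eq_neg_of_add_eq_zero_right e

theorem Line.symm (h : Line u v) : Line v u where
  uu := h.vv
  vv := h.uu
  uv := h.vu hF
  u0 := h.v0
  np := by
    intro c e
    by_cases hc : c = 0
    · rw [hc, zero_smul] at e; exact h.u0 e
    · apply h.np c⁻¹
      rw [e, smul_smul, inv_mul_cancel₀ hc, one_smul]

omit hF in
theorem Line.act (h : Line u v) (g : SU 6 F 2) : Line (act g u) (act g v) where
  uu := by rw [herm_act, h.uu]
  vv := by rw [herm_act, h.vv]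
  uv := by rw [herm_act, h.uv]
  u0 := by
    intro e
    apply h.u0
    apply act_injective g
    rw [e, act_zero]
  np := by
    intro c e
    rw [← act_smul] at e
    exact h.np c (act_injective g e)

theorem Line.smul (h : Line u v) {a b : F} (ha : a ≠ 0) (hb : b ≠ 0) : Line (a • u) (b • v) where
  uu := herm_smul_self hF h.uu a
  vv := herm_smul_self hF h.vv b
  uv := by rw [herm_smul_left, herm_smul_right, h.uv, mul_zero, mul_zero]
  u0 := smul_ne_zero ha h.u0
  np := by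
    intro c e
    apply h.np (b⁻¹ * (c * a))
    rw [smul_smul] at e
    rw [mul_smul, ← e, smul_smul, inv_mul_cancel₀ hb, one_smul]

theorem line_ee {i j : Fin 3} (hij : i ≠ j) : Line (ee i : Fin 6 → F) (ee j) where
  uu := herm_ee hF i i
  vv := herm_ee hF j j
  uv := herm_ee hF i j
  u0 := ee_ne_zero i
  np := by
    intro c e
    fin_cases i <;> fin_cases j <;> first | exact hij rfl | skip
    · have := congrFun e 2; simp [ee] at this
    · have := congrFun e 4; simp [ee] at this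
    · have := congrFun e 0; simp [ee] at this
    · have := congrFun e 4; simp [ee] at this
    · have := congrFun e 0; simp [ee] at this
    · have := congrFun e 2; simp [ee] at this

end LineLemmas

/-! ### Lifts commute -/

section Comm

variable {K : Type u} [Group K] {f : K →* PSU 6 F 2} (h : CE f)

include hF h

theorem lc_conj {a b : PSU 6 F 2} (hab : Commute a b) (g : PSU 6 F 2) :
    h.lc (g * a * g⁻¹) (g * b * g⁻¹) = h.lc a b := by
  obtain ⟨k, rfl⟩ := h.surj g
  rw [← h.conj_lc k a b, h.lc_comm hab, mul_inv_cancel_right]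

theorem lc_TT {a b : PSU 6 F 2} (ha : a ∈ TT hF 6) (hb : b ∈ TT hF 6) (hab : Commute a b) : h.lc a b = 1 := by
  by_cases hne : a = b
  · rw [hne, h.lc_self]
  have key : ∀ a' ∈ TT hF 6, ∀ b' ∈ TT hF 6, a' ≠ b' → Commute a' b' → h.lc a' b' = h.lc a b := by
    intro a' ha' b' hb' hne' hab'
    obtain ⟨g, h1, h2⟩ := trans_commuting hF (by norm_num) a ha b hb a' ha' b' hb' hne hne' hab hab'
    rw [← h1, ← h2, lc_conj hF h hab]
  set z := h.lc a b with hz
  have hzz : z * z = 1 := by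
    have h1 := key b hb a ha (Ne.symm hne) hab.symm
    rw [h.lc_swap a b, ← hz] at h1
    exact mul_eq_one_iff_inv_eq.2 h1
  obtain ⟨ω, hω⟩ := exists_omega hF
  have hL := line_ee hF (i := 0) (j := 1) (by decide)
  have p0 := tau_mem hF hL.u0 hL.uu
  have hr := tau_mem hF (ee_ne_zero (F := F) 2) (herm_ee hF 2 2)
  -- the element `ee 2` is orthogonal to the line and not in it
  have e2 : ∀ w : Fin 6 → F, w ≠ 0 → hermForm 6 F 2 w w = 0 → hermForm 6 F 2 (ee 2) w = 0 → w 4 = 0 →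
      h.lc (tau hF (ee 2)) (tau hF w) = z ∧ Commute (tau hF (ee 2)) (tau hF w) := by
    intro w w0 ww hw w4
    have hc : Commute (tau hF (ee 2)) (tau hF w) :=
      (tau_commute_iff hF (by norm_num) (herm_ee hF 2 2) ww (ee_ne_zero 2)).2 hw
    refine ⟨key _ hr _ (tau_mem hF w0 ww) ?_ hc, hc⟩
    intro he
    obtain ⟨c, hc0, hc1⟩ := (tau_eq_iff hF (by norm_num) (herm_ee hF 2 2) ww (ee_ne_zero 2)).1 he
    have := congrFun hc1 4
    rw [w4] at this
    simp [ee] at this
    exact hc0 this.symm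
  have hv : ∀ a : F, h.lc (tau hF (ee 2)) (tau hF (a • ee 0 + ee 1)) = z ∧
      Commute (tau hF (ee 2)) (tau hF (a • ee 0 + ee 1)) := by
    intro a
    refine e2 _ (hL.ne a) (hL.herm1 hF a a) ?_ (by simp [ee])
    rw [herm_add_right hF, herm_smul_right, herm_ee hF, herm_ee hF, mul_zero, add_zero]
  obtain ⟨c0, d0⟩ := e2 (ee 0) (ee_ne_zero 0) (herm_ee hF 0 0) (herm_ee hF 2 0) (by simp [ee])
  obtain ⟨c1, d1⟩ := e2 (ee 1) (ee_ne_zero 1) (herm_ee hF 1 1) (herm_ee hF 2 1) (by simp [ee])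
  obtain ⟨c2, d2⟩ := hv 1
  obtain ⟨c3, d3⟩ := hv ω
  obtain ⟨c4, d4⟩ := hv (ω ^ 2)
  rw [one_smul] at c2 d2
  have hl := line_prod hF hL.uu hL.vv hL.uv hω
  have e5 : h.lc (tau hF (ee 2)) (tau hF (ee 0) * tau hF (ee 1) * tau hF (ee 0 + ee 1) * tau hF (ω • ee 0 + ee 1) *
      tau hF (ω ^ 2 • ee 0 + ee 1)) = z * z * z * z * z := by
    rw [h.lc_mul_right d4, h.lc_mul_right d3, h.lc_mul_right d2, h.lc_mul_right d1, c0, c1, c2, c3, c4]
  rw [hl, h.lc_one_right, hzz, one_mul, hzz, one_mul] at e5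
  exact e5.symm

/-- Lifts of a transvection commute with the preimage of its centraliser. -/
theorem lc_cent {a g : PSU 6 F 2} (ha : a ∈ TT hF 6) (hg : Commute a g) : h.lc a g = 1 := by
  have h1 : g ∈ closure (TT hF 6 ∩ {u | Commute a u}) := by
    apply centralizer_le hF a ha
    rw [mem_centralizer_singleton_iff]
    exact hg.eq.symm
  suffices key : ∀ g ∈ closure (TT hF 6 ∩ {u | Commute a u}), Commute a g ∧ h.lc a g = 1 from (key g h1).2
  intro g hg
  induction hg using closure_induction with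
  | mem x hx => exact ⟨hx.2, lc_TT hF h ha hx.1 hx.2⟩
  | one => exact ⟨Commute.one_right _, h.lc_one_right _⟩
  | mul x y _ _ hx hy => exact ⟨hx.1.mul_right hy.1, by rw [h.lc_mul_right hy.1, hx.2, hy.2, one_mul]⟩
  | inv x _ hx =>
    refine ⟨hx.1.inv_right, ?_⟩
    have := h.lc_mul_right (l := a) (m := x) (m' := x⁻¹) hx.1.inv_right
    rw [mul_inv_cancel, h.lc_one_right, hx.2, one_mul] at this
    exact this.symm

end Comm

/-! ### The lifts -/

section Lifts

variable {K : Type u} [Group K] {f : K →* PSU 6 F 2} (h : CE f)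

/-- the conjugates of the base lift `t₀` -/
noncomputable def tl (f : K →* PSU 6 F 2) (t₀ : K) (x : Fin 6 → F) : K :=
  open Classical in if hx : ∃ k : K, ∃ g : SU 6 F 2, ∃ c : F, c ≠ 0 ∧ f k = pr 6 F 2 g ∧ act g (ee 0) = c • x then
    hx.choose * t₀ * hx.choose⁻¹ else 1

include h hF

theorem exists_rep {x : Fin 6 → F} (x0 : x ≠ 0) (xx : hermForm 6 F 2 x x = 0) :
    ∃ k : K, ∃ g : SU 6 F 2, ∃ c : F, c ≠ 0 ∧ f k = pr 6 F 2 g ∧ act g (ee 0) = c • x := by
  obtain ⟨g, c, hc, hg⟩ := exists_map hF (ee 0) x (ee_ne_zero 0) x0 (herm_ee hF 0 0) xx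
  obtain ⟨k, hk⟩ := h.surj (pr 6 F 2 g)
  exact ⟨k, g, c, hc, hk, hg⟩

variable {t₀ : K} (ht : f t₀ = tau hF (ee 0))

include ht

theorem tl_eq {x : Fin 6 → F} {k : K} {g : SU 6 F 2} {c : F} (hc : c ≠ 0) (hk : f k = pr 6 F 2 g)
    (hg : act g (ee 0) = c • x) : tl f t₀ x = k * t₀ * k⁻¹ := by
  have hx : ∃ k : K, ∃ g : SU 6 F 2, ∃ c : F, c ≠ 0 ∧ f k = pr 6 F 2 g ∧ act g (ee 0) = c • x :=
    ⟨k, g, c, hc, hk, hg⟩
  unfold tl
  rw [dif_pos hx]
  obtain ⟨g', c', hc', hk', hg'⟩ := hx.choose_spec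
  set k' := hx.choose
  have h0 := herm_ee (F := F) hF 0 0
  have e1 : act (g⁻¹ * g') (ee 0) = (c' * c⁻¹) • (ee 0 : Fin 6 → F) := by
    rw [act_mul, hg', act_smul]
    have e2 : x = c⁻¹ • act g (ee 0) := by rw [hg, smul_smul, inv_mul_cancel₀ hc, one_smul]
    rw [e2, act_smul, act_inv_act, smul_smul]
  have e3 : Commute (tau hF (ee 0)) (f (k⁻¹ * k')) := by
    rw [map_mul, map_inv, hk, hk', ← map_inv, ← map_mul]
    have e4 := conj_tau hF (g⁻¹ * g') h0
    rw [e1, tau_smul hF h0 (mul_ne_zero hc' (inv_ne_zero hc)), mul_inv_eq_iff_eq_mul] at e4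
    exact e4.symm
  have e5 : Commute t₀ (k⁻¹ * k') := by
    apply h.commute_of_lc
    rw [ht]
    exact lc_cent hF h (tau_mem hF (ee_ne_zero 0) h0) e3
  calc k' * t₀ * k'⁻¹ = k * ((k⁻¹ * k') * t₀) * (k⁻¹ * k')⁻¹ * k⁻¹ := by group
    _ = k * (t₀ * (k⁻¹ * k')) * (k⁻¹ * k')⁻¹ * k⁻¹ := by rw [← e5.eq]
    _ = k * t₀ * k⁻¹ := by group

theorem map_tl {x : Fin 6 → F} (x0 : x ≠ 0) (xx : hermForm 6 F 2 x x = 0) : f (tl f t₀ x) = tau hF x := by
  obtain ⟨k, g, c, hc, hk, hg⟩ := exists_rep hF h x0 xx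
  rw [tl_eq hF h ht hc hk hg, map_mul, map_mul, map_inv, hk, ht, conj_tau hF g (herm_ee hF 0 0), hg,
    tau_smul hF xx hc]

theorem conj_tl {x : Fin 6 → F} (x0 : x ≠ 0) (xx : hermForm 6 F 2 x x = 0) {k : K} {g : SU 6 F 2}
    (hk : f k = pr 6 F 2 g) : k * tl f t₀ x * k⁻¹ = tl f t₀ (act g x) := by
  obtain ⟨k', g', c, hc, hk', hg'⟩ := exists_rep hF h x0 xx
  rw [tl_eq hF h ht hc hk' hg', tl_eq hF h ht (k := k * k') (g := g * g') hc (by rw [map_mul, map_mul, hk, hk'])
    (by rw [act_mul, hg', act_smul])]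
  group

theorem tl_smul {x : Fin 6 → F} (x0 : x ≠ 0) (xx : hermForm 6 F 2 x x = 0) {c : F} (hc : c ≠ 0) :
    tl f t₀ (c • x) = tl f t₀ x := by
  obtain ⟨k', g', c', hc', hk', hg'⟩ := exists_rep hF h x0 xx
  rw [tl_eq hF h ht hc' hk' hg']
  exact tl_eq hF h ht (mul_ne_zero hc' (inv_ne_zero hc)) hk' (by
    rw [hg', smul_smul, mul_assoc, inv_mul_cancel₀ hc, mul_one])

theorem tl_comm {x y : Fin 6 → F} (x0 : x ≠ 0) (xx : hermForm 6 F 2 x x = 0) (y0 : y ≠ 0)
    (yy : hermForm 6 F 2 y y = 0) (xy : hermForm 6 F 2 x y = 0) : Commute (tl f t₀ x) (tl f t₀ y) := by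
  apply h.commute_of_lc
  rw [map_tl hF h ht x0 xx, map_tl hF h ht y0 yy]
  exact lc_TT hF h (tau_mem hF x0 xx) (tau_mem hF y0 yy) ((tau_commute_iff hF (by norm_num) xx yy x0).2 xy)

omit h ht hF in
/-- the product over a line -/
noncomputable def pl (f : K →* PSU 6 F 2) (t₀ : K) (ω : F) (x y : Fin 6 → F) : K :=
  tl f t₀ x * tl f t₀ y * tl f t₀ (x + y) * tl f t₀ (ω • x + y) * tl f t₀ (ω ^ 2 • x + y)

variable {ω : F} (hω : ω ^ 2 + ω + 1 = 0)

include hω

theorem pl_mem {x y : Fin 6 → F} (hL : Line x y) : pl f t₀ ω x y ∈ f.ker := by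
  have h1 := hL.ne 1
  rw [one_smul] at h1
  have h2 := hL.herm1 hF 1 1
  rw [one_smul] at h2
  rw [MonoidHom.mem_ker, pl, map_mul, map_mul, map_mul, map_mul, map_tl hF h ht hL.u0 hL.uu,
    map_tl hF h ht hL.v0 hL.vv, map_tl hF h ht h1 h2, map_tl hF h ht (hL.ne _) (hL.herm1 hF _ _),
    map_tl hF h ht (hL.ne _) (hL.herm1 hF _ _)]
  exact line_prod hF hL.uu hL.vv hL.uv hω

/-- the product does not depend on the pair of points -/
theorem pl_smul {x y : Fin 6 → F} (hL : Line x y) {a b : F} (ha : a ≠ 0) (hb : b ≠ 0) :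
    pl f t₀ ω (a • x) (b • y) = pl f t₀ ω x y := by
  have hs := omega_ne_zero hω
  have h3 : ω ^ 3 = 1 := omega_cubed hω
  have key : ∀ c : F, tl f t₀ (c • (a • x) + b • y) = tl f t₀ ((c * (a * b⁻¹)) • x + y) := by
    intro c
    have e : c • (a • x) + b • y = b • ((c * (a * b⁻¹)) • x + y) := by
      rw [smul_add, smul_smul, smul_smul]
      congr 2
      field_simp
    rw [e, tl_smul hF h ht (hL.ne _) (hL.herm1 hF _ _) hb]
  have k1 := key 1
  rw [one_smul] at k1
  have cm : ∀ c d : F, tl f t₀ (c • x + y) * tl f t₀ (d • x + y) = tl f t₀ (d • x + y) * tl f t₀ (c • x + y) :=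
    fun c d => (tl_comm hF h ht (hL.ne c) (hL.herm1 hF c c) (hL.ne d) (hL.herm1 hF d d) (hL.herm1 hF c d)).eq
  unfold pl
  rw [tl_smul hF h ht hL.u0 hL.uu ha, tl_smul hF h ht hL.v0 hL.vv hb, k1, key, key]
  have he : a * b⁻¹ ≠ 0 := mul_ne_zero ha (inv_ne_zero hb)
  generalize a * b⁻¹ = e at he ⊢
  have c1 := cm 1 ω
  have c2 := cm 1 (ω ^ 2)
  have c3 := cm ω (ω ^ 2)
  rw [one_smul] at c1 c2
  rcases cases4 hF hω e with he' | he' | he' | he' <;> rw [he'] at he ⊢
  · exact absurd rfl he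
  · rw [one_mul, mul_one, mul_one, one_smul]
  · have e1 : ω * ω = ω ^ 2 := by ring
    have e2 : ω ^ 2 * ω = 1 := by linear_combination h3
    rw [one_mul, e1, e2, one_smul]
    simp only [mul_assoc]
    rw [← c2, ← mul_assoc (tl f t₀ (ω • x + y)), ← c1, mul_assoc]
  · have e1 : ω * ω ^ 2 = 1 := by linear_combination h3
    have e2 : ω ^ 2 * ω ^ 2 = ω := by linear_combination ω * h3
    rw [one_mul, e1, e2, one_smul]
    simp only [mul_assoc]
    rw [← mul_assoc (tl f t₀ (ω ^ 2 • x + y)), ← c2, mul_assoc, c3]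

/-- the product over a line is the same for all lines -/
theorem pl_const {x y x' y' : Fin 6 → F} (hL : Line x y) (hL' : Line x' y') : pl f t₀ ω x y = pl f t₀ ω x' y' := by
  have n1 : ∀ {x y : Fin 6 → F}, Line x y → tau hF x ≠ tau hF y := by
    intro x y hL he
    obtain ⟨c, -, hc⟩ := (tau_eq_iff hF (by norm_num) hL.uu hL.vv hL.u0).1 he
    exact hL.np c hc
  have n2 : ∀ {x y : Fin 6 → F}, Line x y → Commute (tau hF x) (tau hF y) := fun hL =>
    (tau_commute_iff hF (by norm_num) hL.uu hL.vv hL.u0).2 hL.uv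
  obtain ⟨g, h1, h2⟩ := trans_commuting hF (by norm_num) _ (tau_mem hF hL.u0 hL.uu) _ (tau_mem hF hL.v0 hL.vv) _
    (tau_mem hF hL'.u0 hL'.uu) _ (tau_mem hF hL'.v0 hL'.vv) (n1 hL) (n1 hL') (n2 hL) (n2 hL')
  obtain ⟨g, rfl⟩ := pr_surjective g
  rw [conj_tau hF g hL.uu] at h1
  rw [conj_tau hF g hL.vv] at h2
  have hA := hL.act g
  obtain ⟨a, ha, h1'⟩ := (tau_eq_iff hF (by norm_num) hA.uu hL'.uu hA.u0).1 h1
  obtain ⟨b, hb, h2'⟩ := (tau_eq_iff hF (by norm_num) hA.vv hL'.vv hA.v0).1 h2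
  obtain ⟨k, hk⟩ := h.surj (pr 6 F 2 g)
  have e1 : k * pl f t₀ ω x y * k⁻¹ = pl f t₀ ω (act g x) (act g y) := by
    have c1 := hL.ne 1
    rw [one_smul] at c1
    have c2 := hL.herm1 hF 1 1
    rw [one_smul] at c2
    unfold pl
    rw [← act_smul, ← act_smul, ← act_add, ← act_add, ← act_add, ← conj_tl hF h ht hL.u0 hL.uu hk,
      ← conj_tl hF h ht hL.v0 hL.vv hk, ← conj_tl hF h ht c1 c2 hk,
      ← conj_tl hF h ht (hL.ne _) (hL.herm1 hF _ _) hk, ← conj_tl hF h ht (hL.ne _) (hL.herm1 hF _ _) hk]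
    group
  have e2 : k * pl f t₀ ω x y * k⁻¹ = pl f t₀ ω x y := by
    rw [mem_center_iff.1 (h.cen (pl_mem hF h ht hω hL)) k, mul_inv_cancel_right]
  rw [h1', h2', pl_smul hF h ht hω hA ha hb, ← e1, e2]

omit hω in
/-- the squares -/
theorem sq_mem {x : Fin 6 → F} (x0 : x ≠ 0) (xx : hermForm 6 F 2 x x = 0) : tl f t₀ x * tl f t₀ x ∈ f.ker := by
  rw [MonoidHom.mem_ker, map_mul, map_tl hF h ht x0 xx, tau_mul_self hF xx]

omit hω in
theorem sq_const {x y : Fin 6 → F} (x0 : x ≠ 0) (xx : hermForm 6 F 2 x x = 0) (y0 : y ≠ 0)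
    (yy : hermForm 6 F 2 y y = 0) : tl f t₀ x * tl f t₀ x = tl f t₀ y * tl f t₀ y := by
  have key : ∀ {x : Fin 6 → F}, x ≠ 0 → hermForm 6 F 2 x x = 0 → tl f t₀ x * tl f t₀ x = t₀ * t₀ := by
    intro x x0 xx
    obtain ⟨k, g, c, hc, hk, hg⟩ := exists_rep hF h x0 xx
    have h1 : t₀ * t₀ ∈ f.ker := by
      rw [MonoidHom.mem_ker, map_mul, ht, tau_mul_self hF (herm_ee hF 0 0)]
    have h2 := mem_center_iff.1 (h.cen h1) k
    rw [tl_eq hF h ht hc hk hg]
    calc k * t₀ * k⁻¹ * (k * t₀ * k⁻¹) = k * (t₀ * t₀) * k⁻¹ := by group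
      _ = t₀ * t₀ := by rw [h2, mul_inv_cancel_right]
  rw [key x0 xx, key y0 yy]

end Lifts

/-! ### The good lifts -/

/-- Good lifts of the transvections. -/
structure TL {K : Type u} [Group K] (f : K →* PSU 6 F 2) (t : (Fin 6 → F) → K) : Prop where
  map : ∀ x, hermForm 6 F 2 x x = 0 → f (t x) = tau hF x
  zero : t 0 = 1
  conj : ∀ (k : K) (g : SU 6 F 2) (x), hermForm 6 F 2 x x = 0 → f k = pr 6 F 2 g → k * t x * k⁻¹ = t (act g x)
  smul : ∀ (c : F) (x), c ≠ 0 → hermForm 6 F 2 x x = 0 → t (c • x) = t x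
  comm : ∀ x y, hermForm 6 F 2 x x = 0 → hermForm 6 F 2 y y = 0 → hermForm 6 F 2 x y = 0 → t x * t y = t y * t x
  sq : ∀ x, hermForm 6 F 2 x x = 0 → t x * t x = 1
  line : ∀ x y, Line x y → ∀ ω : F, ω ^ 2 + ω + 1 = 0 →
    t x * t y * t (x + y) * t (ω • x + y) * t (ω ^ 2 • x + y) = 1

theorem tau_zero : tau hF (0 : Fin 6 → F) = 1 := by
  rw [tau_eq_pr hF (herm_zero_left 0), T_zero, map_one]

/-- Good lifts are transported. -/
theorem TL.push {K : Type u} [Group K] {f : K →* PSU 6 F 2} {t : (Fin 6 → F) → K} (h : TL hF f t)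
    {L : Type*} [Group L] {q : K →* L} {π : L →* PSU 6 F 2} (hq : Function.Surjective q) (hπ : π.comp q = f) :
    TL hF π (fun x => q (t x)) where
  map x hx := by
    rw [← h.map x hx, ← hπ]; rfl
  zero := by rw [h.zero, map_one]
  conj k g x hx hk := by
    obtain ⟨k, rfl⟩ := hq k
    rw [← map_inv, ← map_mul, ← map_mul, h.conj k g x hx (by rw [← hπ]; exact hk)]
  smul c x hc hx := by rw [h.smul c x hc hx]
  comm x y hx hy hxy := by rw [← map_mul, ← map_mul, h.comm x y hx hy hxy]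
  sq x hx := by rw [← map_mul, h.sq x hx, map_one]
  line x y hL ω hω := by
    rw [← map_mul, ← map_mul, ← map_mul, ← map_mul, h.line x y hL ω hω, map_one]

/-- in a 2-group every element is a fifth power -/
theorem exists_fifth {Z : Type*} [Group Z] (h : IsPGroup 2 Z) (z : Z) : ∃ w : Z, w ^ 5 = z :=
  (h.powEquiv (n := 5) (by decide)).surjective z

theorem eq_one_of_fifth {Z : Type*} [Group Z] (h : IsPGroup 2 Z) {z : Z} (hz : z ^ 5 = 1) : z = 1 := by
  apply (h.powEquiv (n := 5) (by decide)).injective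
  show z ^ 5 = 1 ^ 5
  rw [hz, one_pow]

/-- **Good lifts exist.** -/
theorem exists_TL {K : Type u} [Group K] {f : K →* PSU 6 F 2} (hf : Function.Surjective f)
    (hZ : f.ker ≤ center K) (h2 : IsPGroup 2 f.ker) : ∃ t : (Fin 6 → F) → K, TL hF f t := by
  classical
  have h : CE f := ⟨hf, hZ⟩
  obtain ⟨ω, hω⟩ := exists_omega hF
  obtain ⟨t₁, ht₁⟩ := hf (tau hF (ee 0))
  have hL0 := line_ee (F := F) hF (i := 0) (j := 1) (by decide)
  obtain ⟨⟨w, hw⟩, hw5⟩ := exists_fifth h2 (⟨pl f t₁ ω (ee 0) (ee 1), pl_mem hF h ht₁ hω hL0⟩ : f.ker)⁻¹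
  have hw5' : w ^ 5 = (pl f t₁ ω (ee 0) (ee 1))⁻¹ := congrArg Subtype.val hw5
  have hwc : ∀ k : K, k * w = w * k := mem_center_iff.1 (hZ hw)
  have ht₀ : f (w * t₁) = tau hF (ee 0) := by
    rw [map_mul, ht₁, (MonoidHom.mem_ker).1 hw, one_mul]
  set t₀ := w * t₁ with ht₀'
  -- the lifts change by `w`
  have e1 : ∀ x : Fin 6 → F, x ≠ 0 → hermForm 6 F 2 x x = 0 → tl f t₀ x = w * tl f t₁ x := by
    intro x x0 xx
    obtain ⟨k, g, c, hc, hk, hg⟩ := exists_rep hF h x0 xx
    rw [tl_eq hF h ht₀ hc hk hg, tl_eq hF h ht₁ hc hk hg, ht₀']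
    calc k * (w * t₁) * k⁻¹ = (k * w) * t₁ * k⁻¹ := by group
      _ = w * (k * t₁ * k⁻¹) := by rw [hwc]; group
  have e2 : pl f t₀ ω (ee 0) (ee 1) = 1 := by
    have c1 := hL0.ne 1
    rw [one_smul] at c1
    have c2 := hL0.herm1 hF 1 1
    rw [one_smul] at c2
    unfold pl
    rw [e1 _ hL0.u0 hL0.uu, e1 _ hL0.v0 hL0.vv, e1 _ c1 c2, e1 _ (hL0.ne _) (hL0.herm1 hF _ _),
      e1 _ (hL0.ne _) (hL0.herm1 hF _ _)]
    have e3 : ∀ a b c d e : K, w * a * (w * b) * (w * c) * (w * d) * (w * e) = w ^ 5 * (a * b * c * d * e) := by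
      intro a b c d e
      have k1 : ∀ a b : K, w * a * (w * b) = w ^ 2 * (a * b) := fun a b => by
        rw [pow_two]
        calc w * a * (w * b) = w * (a * w) * b := by group
          _ = w * w * (a * b) := by rw [hwc]; group
      have k2 : ∀ (n : ℕ) (a b : K), w ^ n * a * (w * b) = w ^ (n + 1) * (a * b) := fun n a b => by
        calc w ^ n * a * (w * b) = w ^ n * (a * w) * b := by group
          _ = w ^ n * (w * a) * b := by rw [hwc]
          _ = w ^ (n + 1) * (a * b) := by rw [pow_succ]; group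
      rw [k1, k2, k2, k2]
    rw [e3, hw5']
    exact inv_mul_cancel _
  have hsq : ∀ x : Fin 6 → F, x ≠ 0 → hermForm 6 F 2 x x = 0 → tl f t₀ x * tl f t₀ x = 1 := by
    set s := tl f t₀ (ee 0) * tl f t₀ (ee 0) with hs
    have hsc : ∀ x : Fin 6 → F, x ≠ 0 → hermForm 6 F 2 x x = 0 → tl f t₀ x * tl f t₀ x = s :=
      fun x x0 xx => sq_const hF h ht₀ x0 xx (ee_ne_zero 0) (herm_ee hF 0 0)
    have hsm : s ∈ f.ker := sq_mem hF h ht₀ (ee_ne_zero 0) (herm_ee hF 0 0)
    have h5 : s ^ 5 = 1 := by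
      have c1 := hL0.ne 1
      rw [one_smul] at c1
      have c2 := hL0.herm1 hF 1 1
      rw [one_smul] at c2
      have hu := hL0.hermu hF
      have hv := hL0.hermv hF
      have hu1 := hu 1
      rw [one_smul] at hu1
      have hv1 := hv 1
      rw [one_smul] at hv1
      have h11 : ∀ a : F, hermForm 6 F 2 ((ee 0 : Fin 6 → F) + ee 1) (a • ee 0 + ee 1) = 0 := fun a => by
        have := hL0.herm1 hF 1 a
        rwa [one_smul] at this
      have cm := fun {x y : Fin 6 → F} (x0 : x ≠ 0) (xx : hermForm 6 F 2 x x = 0) (y0 : y ≠ 0)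
        (yy : hermForm 6 F 2 y y = 0) (xy : hermForm 6 F 2 x y = 0) => tl_comm hF h ht₀ x0 xx y0 yy xy
      have k1 := cm hL0.u0 hL0.uu hL0.v0 hL0.vv hL0.uv
      have k2 := (cm hL0.u0 hL0.uu c1 c2 hu1).mul_left (cm hL0.v0 hL0.vv c1 c2 hv1)
      have k3 := ((cm hL0.u0 hL0.uu (hL0.ne ω) (hL0.herm1 hF ω ω) (hu ω)).mul_left
        (cm hL0.v0 hL0.vv (hL0.ne ω) (hL0.herm1 hF ω ω) (hv ω))).mul_left
        (cm c1 c2 (hL0.ne ω) (hL0.herm1 hF ω ω) (h11 ω))
      have k4 := (((cm hL0.u0 hL0.uu (hL0.ne (ω ^ 2)) (hL0.herm1 hF _ _) (hu (ω ^ 2))).mul_left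
        (cm hL0.v0 hL0.vv (hL0.ne (ω ^ 2)) (hL0.herm1 hF _ _) (hv (ω ^ 2)))).mul_left
        (cm c1 c2 (hL0.ne (ω ^ 2)) (hL0.herm1 hF _ _) (h11 (ω ^ 2)))).mul_left
        (cm (hL0.ne ω) (hL0.herm1 hF ω ω) (hL0.ne (ω ^ 2)) (hL0.herm1 hF _ _) (hL0.herm1 hF ω (ω ^ 2)))
      have e3 : ∀ {a b : K}, Commute a b → (a * b) * (a * b) = (a * a) * (b * b) := fun {a b} hab => by
        calc (a * b) * (a * b) = a * (b * a) * b := by group
          _ = a * (a * b) * b := by rw [← hab.eq]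
          _ = (a * a) * (b * b) := by group
      have e4 : pl f t₀ ω (ee 0) (ee 1) * pl f t₀ ω (ee 0) (ee 1) = 1 := by rw [e2, one_mul]
      unfold pl at e4
      rw [e3 k4, e3 k3, e3 k2, e3 k1, hsc _ hL0.u0 hL0.uu, hsc _ hL0.v0 hL0.vv, hsc _ c1 c2,
        hsc _ (hL0.ne ω) (hL0.herm1 hF ω ω), hsc _ (hL0.ne (ω ^ 2)) (hL0.herm1 hF _ _)] at e4
      rw [← e4]
      simp only [pow_succ, pow_zero, one_mul]
    have h6 : (⟨s, hsm⟩ : f.ker) = 1 := eq_one_of_fifth h2 (Subtype.ext h5)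
    have h7 : s = 1 := congrArg Subtype.val h6
    intro x x0 xx
    rw [hsc x x0 xx, h7]
  refine ⟨fun x => if x = 0 then 1 else tl f t₀ x, ?_, ?_, ?_, ?_, ?_, ?_, ?_⟩
  · intro x xx
    by_cases x0 : x = 0
    · rw [if_pos x0, x0, tau_zero, map_one]
    · rw [if_neg x0, map_tl hF h ht₀ x0 xx]
  · exact if_pos rfl
  · intro k g x xx hk
    by_cases x0 : x = 0
    · rw [if_pos x0, x0, act_zero, if_pos rfl, mul_one, mul_inv_cancel]
    · have gx0 : act g x ≠ 0 := by
        intro e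
        apply x0
        apply act_injective g
        rw [e, act_zero]
      rw [if_neg x0, if_neg gx0, conj_tl hF h ht₀ x0 xx hk]
  · intro c x hc xx
    by_cases x0 : x = 0
    · rw [if_pos x0, x0, smul_zero, if_pos rfl]
    · rw [if_neg x0, if_neg (smul_ne_zero hc x0), tl_smul hF h ht₀ x0 xx hc]
  · intro x y xx yy xy
    by_cases x0 : x = 0
    · rw [if_pos x0, one_mul, mul_one]
    by_cases y0 : y = 0
    · rw [if_pos y0, one_mul, mul_one]
    rw [if_neg x0, if_neg y0]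
    exact (tl_comm hF h ht₀ x0 xx y0 yy xy).eq
  · intro x xx
    by_cases x0 : x = 0
    · rw [if_pos x0, one_mul]
    · rw [if_neg x0, hsq x x0 xx]
  · intro x y hL ω' hω'
    have hL1 := hL.ne 1
    rw [one_smul] at hL1
    rw [if_neg hL.u0, if_neg hL.v0, if_neg hL1, if_neg (hL.ne _), if_neg (hL.ne _)]
    have e3 := pl_const hF h ht₀ hω hL0 hL
    rw [e2] at e3
    -- the other root
    have e4 : ω' = ω ∨ ω' = ω ^ 2 := by
      rcases cases4 hF hω ω' with h0 | h0 | h0 | h0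
      · exact absurd h0 (omega_ne_zero hω')
      · exact absurd h0 (omega_ne_one hF hω')
      · exact Or.inl h0
      · exact Or.inr h0
    rcases e4 with rfl | rfl
    · exact e3.symm
    · have h3 : ω ^ 3 = 1 := omega_cubed hω
      have e5 : (ω ^ 2) ^ 2 = ω := by linear_combination ω * h3
      have e6 := (tl_comm hF h ht₀ (hL.ne ω) (hL.herm1 hF ω ω) (hL.ne (ω ^ 2)) (hL.herm1 hF _ _)
        (hL.herm1 hF ω (ω ^ 2))).eq
      rw [e5, mul_assoc _ (tl f t₀ (ω ^ 2 • x + y)), ← e6, ← mul_assoc]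
      exact e3.symm

end Cfsg.Agent.KFacts.OddLift.USixL

end

-- merged: Cfsg.Agent.KFacts.OddLift.USixL.Quad
section

/-!
# Good lifts are quadratic maps on totally isotropic subspaces

`TI W`: `W` is totally isotropic; `MW t W`: the group generated by the lifts `t x`, `x ∈ W`, elementary abelian.
`yy t u v = t u * t v * t (u + v)` : the polar map, `y_smul_left`, `y_symm`, `y_line_add`, `t_add`, `conj_y`.
-/

set_option autoImplicit false
set_option linter.unusedSectionVars false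

namespace Cfsg.Agent.KFacts.OddLift.USixL

open Subgroup Cfsg Cfsg.Agent.LieClassical.HermBasic Cfsg.Agent.ClassicalGeometry.UnitTransv
  Cfsg.Agent.SporadicStructure.UnitTwo Cfsg.Agent.R01.PSUSix Cfsg.Agent.KFacts.Mult.Calc
open Cfsg.Agent.ClassicalGeometry.UnitAutBasic (tau pr pr_surjective)
open scoped commutatorElement

universe u v

variable {F : Type v} [Field F] [Fintype F] {hF : Fintype.card F = 2 ^ 2}

/-- totally isotropic subspaces -/
def TI (W : Submodule F (Fin 6 → F)) : Prop := ∀ x ∈ W, ∀ y ∈ W, hermForm 6 F 2 x y = 0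

variable {K : Type u} [Group K] {f : K →* PSU 6 F 2} {t : (Fin 6 → F) → K}

/-- the group generated by the lifts belonging to `W` -/
def MW (t : (Fin 6 → F) → K) (W : Submodule F (Fin 6 → F)) : Subgroup K := closure (t '' (W : Set (Fin 6 → F)))

theorem t_mem {W : Submodule F (Fin 6 → F)} {x : Fin 6 → F} (hx : x ∈ W) : t x ∈ MW t W :=
  subset_closure ⟨x, hx, rfl⟩

/-- the polar map -/
def yy (t : (Fin 6 → F) → K) (u v : Fin 6 → F) : K := t u * t v * t (u + v)

theorem y_mem {W : Submodule F (Fin 6 → F)} {u v : Fin 6 → F} (hu : u ∈ W) (hv : v ∈ W) : yy t u v ∈ MW t W :=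
  mul_mem (mul_mem (t_mem hu) (t_mem hv)) (t_mem (W.add_mem hu hv))

variable (h : TL hF f t)

include h

theorem MW_comm {W : Submodule F (Fin 6 → F)} (hW : TI W) {a b : K} (ha : a ∈ MW t W) (hb : b ∈ MW t W) :
    a * b = b * a := by
  have hP : ∀ x ∈ t '' (W : Set (Fin 6 → F)), ∀ y ∈ t '' (W : Set (Fin 6 → F)), x * y = y * x := by
    rintro _ ⟨x, hx, rfl⟩ _ ⟨y, hy, rfl⟩
    exact h.comm x y (hW x hx x hx) (hW y hy y hy) (hW x hx y hy)
  have h1 := (Subgroup.isMulCommutative_closure hP).is_comm.comm (⟨a, ha⟩ : MW t W) ⟨b, hb⟩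
  exact congrArg Subtype.val h1

theorem MW_sq {W : Submodule F (Fin 6 → F)} (hW : TI W) {a : K} (ha : a ∈ MW t W) : a * a = 1 := by
  suffices key : a ∈ MW t W ∧ a * a = 1 from key.2
  have ha' := ha
  unfold MW at ha'
  induction ha' using closure_induction with
  | mem x hx =>
    obtain ⟨x, hx, rfl⟩ := hx
    exact ⟨t_mem hx, h.sq x (hW x hx x hx)⟩
  | one => exact ⟨one_mem _, mul_one 1⟩
  | mul x y hx hy h1 h2 =>
    have h3 := (h1 hx).2
    have h4 := (h2 hy).2
    refine ⟨mul_mem (h1 hx).1 (h2 hy).1, ?_⟩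
    calc x * y * (x * y) = x * (y * x) * y := by group
      _ = x * (x * y) * y := by rw [MW_comm h hW (h2 hy).1 (h1 hx).1]
      _ = (x * x) * (y * y) := by group
      _ = 1 := by rw [h3, h4, one_mul]
  | inv x hx h1 =>
    have h3 := (h1 hx).2
    refine ⟨inv_mem (h1 hx).1, ?_⟩
    rw [← mul_inv_rev, h3, inv_one]

/-- conjugation -/
theorem conj_MW {W W' : Submodule F (Fin 6 → F)} (hW : TI W) {k : K} {g : SU 6 F 2} (hk : f k = pr 6 F 2 g)
    (hg : ∀ x ∈ W, act g x ∈ W') {a : K} (ha : a ∈ MW t W) : k * a * k⁻¹ ∈ MW t W' := by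
  unfold MW at ha
  induction ha using closure_induction with
  | mem x hx =>
    obtain ⟨x, hx, rfl⟩ := hx
    rw [h.conj k g x (hW x hx x hx) hk]
    exact t_mem (hg x hx)
  | one => rw [mul_one, mul_inv_cancel]; exact one_mem _
  | mul x y _ _ h1 h2 =>
    have e : k * (x * y) * k⁻¹ = (k * x * k⁻¹) * (k * y * k⁻¹) := by group
    rw [e]; exact mul_mem h1 h2
  | inv x _ h1 =>
    have e : k * x⁻¹ * k⁻¹ = (k * x * k⁻¹)⁻¹ := by group
    rw [e]; exact inv_mem h1

/-- a perpendicular isotropic pair -/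
structure PP (u v : Fin 6 → F) : Prop where
  uu : hermForm 6 F 2 u u = 0
  vv : hermForm 6 F 2 v v = 0
  uv : hermForm 6 F 2 u v = 0

omit h in
theorem PP.ti (hF : Fintype.card F = 2 ^ 2) {u v : Fin 6 → F} (p : PP u v) : TI (Submodule.span F {u, v}) := by
  have hvu := herm_eq_zero_swap hF p.uv
  intro x hx y hy
  obtain ⟨a, b, rfl⟩ := Submodule.mem_span_pair.1 hx
  obtain ⟨c, d, rfl⟩ := Submodule.mem_span_pair.1 hy
  simp only [herm_add_left, herm_smul_left, herm_add_right hF, herm_smul_right, p.uu, p.vv, p.uv, hvu, mul_zero,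
    add_zero]

omit h in
theorem PP.symm (hF : Fintype.card F = 2 ^ 2) {u v : Fin 6 → F} (p : PP u v) : PP v u :=
  ⟨p.vv, p.uu, herm_eq_zero_swap hF p.uv⟩

omit h in
theorem PP.smul (hF : Fintype.card F = 2 ^ 2) {u v : Fin 6 → F} (p : PP u v) (a b : F) : PP (a • u) (b • v) :=
  ⟨herm_smul_self hF p.uu a, herm_smul_self hF p.vv b, by
    rw [herm_smul_left, herm_smul_right, p.uv, mul_zero, mul_zero]⟩

omit h in
theorem PP.add (hF : Fintype.card F = 2 ^ 2) {u v : Fin 6 → F} (p : PP u v) : hermForm 6 F 2 (u + v) (u + v) = 0 :=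
  p.ti hF _ (Submodule.add_mem _ (Submodule.subset_span (by simp)) (Submodule.subset_span (by simp))) _
    (Submodule.add_mem _ (Submodule.subset_span (by simp)) (Submodule.subset_span (by simp)))

omit h in
theorem Line.pp {u v : Fin 6 → F} (p : Line u v) : PP u v := ⟨p.uu, p.vv, p.uv⟩

theorem y_symm {u v : Fin 6 → F} (p : PP u v) : yy t u v = yy t v u := by
  unfold yy
  rw [h.comm u v p.uu p.vv p.uv, add_comm]

theorem y_zero_right {u : Fin 6 → F} (p : hermForm 6 F 2 u u = 0) : yy t u 0 = 1 := by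
  unfold yy
  rw [h.zero, mul_one, add_zero, h.sq u p]

theorem y_zero_left {u : Fin 6 → F} (p : hermForm 6 F 2 u u = 0) : yy t 0 u = 1 := by
  unfold yy
  rw [h.zero, one_mul, zero_add, h.sq u p]

theorem y_smul_smul {u v : Fin 6 → F} (p : PP u v) {c : F} (hc : c ≠ 0) : yy t (c • u) (c • v) = yy t u v := by
  unfold yy
  rw [h.smul c u hc p.uu, h.smul c v hc p.vv, ← smul_add, h.smul c (u + v) hc (p.add hF)]

theorem y_smul_left {u v : Fin 6 → F} (p : PP u v) {c : F} (hc : c ≠ 0) : yy t (c • u) v = yy t u (c⁻¹ • v) := by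
  have e := y_smul_smul h (p.smul hF c 1) (inv_ne_zero hc)
  simp only [smul_smul, inv_mul_cancel₀ hc, one_smul, mul_one] at e
  exact e.symm

theorem y_sq {u v : Fin 6 → F} (p : PP u v) : yy t u v * yy t u v = 1 :=
  MW_sq h (p.ti hF) (y_mem (Submodule.subset_span (by simp)) (Submodule.subset_span (by simp)))

theorem conj_y {u v : Fin 6 → F} (p : PP u v) {k : K} {g : SU 6 F 2} (hk : f k = pr 6 F 2 g) :
    k * yy t u v * k⁻¹ = yy t (act g u) (act g v) := by
  unfold yy
  rw [← act_add, ← h.conj k g u p.uu hk, ← h.conj k g v p.vv hk, ← h.conj k g (u + v) (p.add hF) hk]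
  group

/-- the quadratic map -/
theorem t_add {u v : Fin 6 → F} (p : PP u v) : t (u + v) = t u * t v * yy t u v := by
  have hW := p.ti hF
  have hu : t u ∈ MW t (Submodule.span F {u, v}) := t_mem (Submodule.subset_span (by simp))
  have hv : t v ∈ MW t (Submodule.span F {u, v}) := t_mem (Submodule.subset_span (by simp))
  have h1 := MW_sq h hW (mul_mem hu hv)
  unfold yy
  rw [← mul_assoc, h1, one_mul]

/-- the polar map on a line -/
theorem y_line {u v : Fin 6 → F} (p : Line u v) {ω : F} (hω : ω ^ 2 + ω + 1 = 0) :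
    yy t u v = t (ω • u + v) * t (ω ^ 2 • u + v) := by
  have h1 := h.line u v p ω hω
  have hW := p.pp.ti hF
  have mu : u ∈ Submodule.span F {u, v} := Submodule.subset_span (by simp)
  have mv : v ∈ Submodule.span F {u, v} := Submodule.subset_span (by simp)
  have ma : ∀ a : F, a • u + v ∈ Submodule.span F {u, v} := fun a =>
    Submodule.add_mem _ (Submodule.smul_mem _ a mu) mv
  have h2 := MW_sq h hW (y_mem (t := t) mu mv)
  have h3 : yy t u v * (t (ω • u + v) * t (ω ^ 2 • u + v)) = 1 := by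
    rw [← h1]; unfold yy; simp only [mul_assoc]
  exact mul_left_cancel (h2.trans h3.symm)

/-- additivity on a line, symmetric form -/
theorem y_line_three {u v : Fin 6 → F} (p : Line u v) {ω : F} (hω : ω ^ 2 + ω + 1 = 0) :
    yy t u v * yy t u (ω • v) * yy t u (ω ^ 2 • v) = 1 := by
  have hω0 := omega_ne_zero hω
  have h3 : ω ^ 3 = 1 := omega_cubed hω
  have i1 : (ω ^ 2)⁻¹ = ω := inv_eq_of_mul_eq_one_right (by linear_combination h3)
  have i2 : ω⁻¹ = ω ^ 2 := inv_eq_of_mul_eq_one_right (by linear_combination h3)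
  have hW := p.pp.ti hF
  have mu : u ∈ Submodule.span F {u, v} := Submodule.subset_span (by simp)
  have mv : v ∈ Submodule.span F {u, v} := Submodule.subset_span (by simp)
  have ma : ∀ a : F, a • u + v ∈ Submodule.span F {u, v} := fun a =>
    Submodule.add_mem _ (Submodule.smul_mem _ a mu) mv
  have e1 : yy t u (ω • v) = t (u + v) * t (ω • u + v) := by
    have q := y_smul_left h p.pp (c := ω ^ 2) (pow_ne_zero 2 hω0)
    rw [i1] at q
    rw [← q]
    have r := y_line h (p.smul hF (a := ω ^ 2) (b := 1) (pow_ne_zero 2 hω0) one_ne_zero) hω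
    rw [one_smul, smul_smul, smul_smul] at r
    have r1 : ω * ω ^ 2 = 1 := by linear_combination h3
    have r2 : ω ^ 2 * ω ^ 2 = ω := by linear_combination ω * h3
    rw [r1, r2, one_smul] at r
    exact r
  have e2 : yy t u (ω ^ 2 • v) = t (ω ^ 2 • u + v) * t (u + v) := by
    have q := y_smul_left h p.pp (c := ω) hω0
    rw [i2] at q
    rw [← q]
    have r := y_line h (p.smul hF (a := ω) (b := 1) hω0 one_ne_zero) hω
    rw [one_smul, smul_smul, smul_smul] at r
    have r1 : ω * ω = ω ^ 2 := by ring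
    have r2 : ω ^ 2 * ω = 1 := by linear_combination h3
    rw [r1, r2, one_smul] at r
    exact r
  rw [y_line h p hω, e1, e2]
  have m1 : t (u + v) ∈ MW t (Submodule.span F {u, v}) := t_mem (Submodule.add_mem _ mu mv)
  have m2 := t_mem (t := t) (ma ω)
  have m3 := t_mem (t := t) (ma (ω ^ 2))
  have c := fun {a b : K} (ha : a ∈ MW t (Submodule.span F {u, v})) (hb : b ∈ MW t (Submodule.span F {u, v})) =>
    MW_comm h hW ha hb
  have s := fun {a : K} (ha : a ∈ MW t (Submodule.span F {u, v})) => MW_sq h hW ha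
  generalize t (u + v) = A at m1 ⊢
  generalize t (ω • u + v) = B at m2 ⊢
  generalize t (ω ^ 2 • u + v) = C at m3 ⊢
  calc B * C * (A * B) * (C * A) = (B * C * A) * (B * C * A) := by group
    _ = 1 := s (mul_mem (mul_mem m2 m3) m1)

/-- additivity on a line -/
theorem y_line_add {u v : Fin 6 → F} (p : Line u v) (a b : F) :
    yy t u (a • v) * yy t u (b • v) = yy t u ((a + b) • v) := by
  obtain ⟨ω, hω⟩ := exists_omega hF
  have h2 := two_eq_zero hF
  have hs := add_self hF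
  have hW := p.pp.ti hF
  have mu : u ∈ Submodule.span F {u, v} := Submodule.subset_span (by simp)
  have mv : v ∈ Submodule.span F {u, v} := Submodule.subset_span (by simp)
  have my : ∀ a : F, yy t u (a • v) ∈ MW t (Submodule.span F {u, v}) := fun a =>
    y_mem mu (Submodule.smul_mem _ a mv)
  have y0 : yy t u ((0 : F) • v) = 1 := by rw [zero_smul]; exact y_zero_right h p.uu
  have sq : ∀ a : F, yy t u (a • v) * yy t u (a • v) = 1 := fun a => MW_sq h hW (my a)
  have cm : ∀ a b : F, yy t u (a • v) * yy t u (b • v) = yy t u (b • v) * yy t u (a • v) := fun a b =>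
    MW_comm h hW (my a) (my b)
  have k3 := y_line_three h p hω
  have m1 := my 1
  have sq1 := sq 1
  have k12 : yy t u ((1 : F) • v) * yy t u (ω • v) = yy t u (ω ^ 2 • v) := by
    rw [one_smul]
    have := sq (ω ^ 2)
    exact mul_right_cancel (k3.trans this.symm)
  have k13 : yy t u ((1 : F) • v) * yy t u (ω ^ 2 • v) = yy t u (ω • v) := by
    rw [← k12, ← mul_assoc, sq, one_mul]
  have k23 : yy t u (ω • v) * yy t u (ω ^ 2 • v) = yy t u ((1 : F) • v) := by
    rw [← k12, cm 1 ω, ← mul_assoc, sq, one_mul]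
  rcases cases4 hF hω a with ha | ha | ha | ha <;> rcases cases4 hF hω b with hb | hb | hb | hb <;> rw [ha, hb]
  · rw [y0, one_mul, add_zero, y0]
  · rw [y0, one_mul, zero_add]
  · rw [y0, one_mul, zero_add]
  · rw [y0, one_mul, zero_add]
  · rw [y0, mul_one, add_zero]
  · rw [sq, hs, y0]
  · rw [k12]; congr 2; linear_combination hω - h2 * (ω + 1)
  · rw [k13]; congr 2; linear_combination hω - h2 * (ω ^ 2 + 1)
  · rw [y0, mul_one, add_zero]
  · rw [cm, k12]; congr 2; linear_combination hω - h2 * (ω + 1)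
  · rw [sq, hs, y0]
  · rw [k23]; congr 2; linear_combination hω - h2 * (ω ^ 2 + ω)
  · rw [y0, mul_one, add_zero]
  · rw [cm, k13]; congr 2; linear_combination hω - h2 * (ω ^ 2 + 1)
  · rw [cm, k23]; congr 2; linear_combination hω - h2 * (ω ^ 2 + ω)
  · rw [sq, hs, y0]

end Cfsg.Agent.KFacts.OddLift.USixL

end
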